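import Cfsg.Agent.Lib.HNRecog.Assign.Good
import Cfsg.Agent.Lib.HNRecog.Local.Swap

/-!
The classes of the two outer involutions: `z` is conjugate to `t`, and the product of `z` with the conjugate
`u0 = el [2,0,2,2,2,1,3]` of `a` is not.
-/

set_option autoImplicit false
set_option maxRecDepth 100000
set_option linter.style.haveILetI false

namespace Cfsg.Agent.HNRecog.Assign

open Cfsg.Agent.HN Cfsg.Agent.HNMult

noncomputable section

universe u

namespace Ctx

variable {G : Type u} [Group G] [Finite G] (K : Ctx G)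

/-- Only one assignment of the two outer classes is possible. -/
theorem classes :
    IsConj K.t (K.ψ (eS (Cfsg.Agent.HNRecog.Dat.reps.getD 3 0))) ∧
      ¬IsConj K.t (K.ψ (eS (Cfsg.Agent.HNRecog.Dat.reps.getD 4 0))) := by
  classical
  by_cases hC : IsConj K.t (K.ψ (eS (Cfsg.Agent.HNRecog.Dat.reps.getD 3 0))) <;>
    by_cases hD : IsConj K.t (K.ψ (eS (Cfsg.Agent.HNRecog.Dat.reps.getD 4 0)))
  · obtain ⟨n, -, -, -, c, hc, -⟩ := K.exists_listed (bC := true) (bD := true)
      ⟨iff_of_true rfl hC, iff_of_true rfl hD⟩ scan_both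
    exact absurd hc List.not_mem_nil
  · exact ⟨hC, hD⟩
  · have hcl : K.cls false true := ⟨iff_of_false Bool.false_ne_true hC, iff_of_true rfl hD⟩
    obtain ⟨n, hnt, hna, hne, c, hc, hmap⟩ := K.exists_listed hcl scan_twist
    have M : K.Move c n := ⟨hc, hnt, hna, mul_inv_eq_iff_eq_mul.1 hne, hmap⟩
    have h := List.all_eq_true.1 cands_ok c hc
    rw [Bool.or_eq_true] at h
    rcases h with h | h
    · exact absurd (M.not_bad h) id
    · exact absurd (M.not_good hcl h) id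
  · obtain ⟨n, -, -, -, c, hc, -⟩ := K.exists_listed (bC := false) (bD := false)
      ⟨iff_of_false Bool.false_ne_true hC, iff_of_false Bool.false_ne_true hD⟩ scan_none
    exact absurd hc List.not_mem_nil

end Ctx

/-- **The classes of the outer involutions**: `z` is conjugate to `t`, `z u0` is not. -/
theorem outer_classes {G : Type u} [Group G] [Finite G] {t : G} (ψ : H0 →* G) (hinj : Function.Injective ψ)
    (hran : ψ.range = Subgroup.centralizer ({t} : Set G)) (ht : ψ (hx ^ 2) = t) (q : G)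
    (hq1 : q * t * q⁻¹ = ψ elA) (hq2 : q * ψ elA * q⁻¹ = t) (hat : ¬IsConj t (ψ elAT)) :
    IsConj t (ψ hz) ∧ ¬IsConj t (ψ (hz * el [2, 0, 2, 2, 2, 1, 3])) := by
  subst ht
  let K : Ctx G := ⟨ψ, hinj, fun g hg => MonoidHom.mem_range.1
    (hran ▸ Subgroup.mem_centralizer_singleton_iff.2 hg), hat, q, hq1, hq2⟩
  obtain ⟨h3, h4⟩ := K.classes
  have h := wit_outer_ok
  simp only [okWitOuter, Bool.and_eq_true] at h
  obtain ⟨⟨-, hz3⟩, hz4⟩ := h
  have e3 := el_eq hz3
  have e4 := el_eq hz4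
  rw [el_append, el_append, el_winv] at e3 e4
  have hel : el [4] = hz := by simp [el, wv, g5]
  have hel' : el [4, 2, 0, 2, 2, 2, 1, 3] = hz * el [2, 0, 2, 2, 2, 1, 3] := by
    rw [← hel, ← el_append]; rfl
  have conj_of : ∀ {h x r : H0}, h⁻¹ * x * h = r → IsConj (ψ x) (ψ r) := fun {h x r} e =>
    isConj_iff.2 ⟨(ψ h)⁻¹, by rw [inv_inv, ← map_inv, ← map_mul, ← map_mul, e]⟩
  rw [hel] at e3
  rw [hel'] at e4
  exact ⟨h3.trans (conj_of e3).symm, fun e => h4 (e.trans (conj_of e4))⟩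

/-- The local data together with the classes of the outer involutions. -/
theorem exists_local_classes {G : Type u} [Group G] [Finite G] [IsSimpleGroup G] (t : G) (ht : orderOf t = 2)
    (M : Subgroup (Subgroup.centralizer ({t} : Set G))) [M.Normal] (hM : M.index = 2)
    (hout : Subgroup.centralizer (M : Set (Subgroup.centralizer ({t} : Set G))) ≤ M)
    (hcov : Cfsg.IsNonsplitDoubleCover M Cfsg.Spor.HS) :
    ∃ (ψ : H0 →* G) (q : G), Function.Injective ψ ∧ ψ.range = Subgroup.centralizer ({t} : Set G) ∧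
      ψ (hx ^ 2) = t ∧ q * t * q⁻¹ = ψ elA ∧ q * ψ elA * q⁻¹ = t ∧ q * ψ elAT * q⁻¹ = ψ elAT ∧
      ¬IsConj t (ψ elAT) ∧ IsConj t (ψ hz) ∧ ¬IsConj t (ψ (hz * el [2, 0, 2, 2, 2, 1, 3])) ∧
      ∀ x : G, orderOf x = 2 → x * t = t * x → IsConj x t ∨ IsConj x (ψ elAT) := by
  obtain ⟨ψ, q, h1, h2, h3, h4, h5, h6, -, h8, h9⟩ := exists_local_swap t ht M hM hout hcov
  obtain ⟨c1, c2⟩ := outer_classes ψ h1 h2 h3 q h4 h5 h8
  exact ⟨ψ, q, h1, h2, h3, h4, h5, h6, h8, c1, c2, h9⟩

end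

end Cfsg.Agent.HNRecog.Assign
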