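import Cfsg.Agent.Lib.HNRecog.Assign.Defs

/-! The table, elements and conjugate lists. -/

set_option autoImplicit false
set_option maxRecDepth 100000
set_option maxHeartbeats 0

namespace Cfsg.Agent.HNRecog.Assign

open Cfsg.Agent.HN

theorem pos_ok : okPos = true := by decide +kernel

theorem mul_ok : allLo okMul 32 = true := by decide +kernel

theorem elts_ok : okElts = true := by decide +kernel

theorem wit_outer_ok : okWitOuter = true := by decide +kernel

end Cfsg.Agent.HNRecog.Assign
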