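import Cfsg.Agent.Lib.HNRecog.Assign.Defs

/-! The lists of conjugates. -/

set_option autoImplicit false
set_option maxRecDepth 100000
set_option maxHeartbeats 0

namespace Cfsg.Agent.HNRecog.Assign

open Cfsg.Agent.HN

theorem orbE_ok : allLo okOrbE Dat.orbELen = true := by decide +kernel

theorem orbA_ok : allLo okOrbA Dat.orbALen = true := by decide +kernel

end Cfsg.Agent.HNRecog.Assign
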