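import Cfsg.Agent.Lib.HNRecog.Local.Main
import Cfsg.Agent.Lib.HNRecog.Assign.CheckElts
import Cfsg.Agent.Lib.HNRecog.Assign.CheckOrbits

/-!
The centraliser of `a` in the group of order 177408000 has order 30720; that of `a` and an element `eE` of order
three has order 96 and is the product of `eE` and the subgroup of order 32 of the table.
-/

set_option autoImplicit false
set_option maxRecDepth 100000
set_option linter.style.haveILetI false

namespace Cfsg.Agent.HNRecog.Assign

open Cfsg.Agent.HN Cfsg.Agent.HNMult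

noncomputable section

/-- The element of a position. -/
def eP (x : ℕ) : H0 := eS (pos x)

/-- The element of order three. -/
def eE : H0 := el Dat.eW

theorem pos_spec {x : ℕ} (hx : x < 32) :
    pos x < 2048 ∧ invOf x < 32 ∧ mulP x (invOf x) = Dat.onep ∧
      evalW (fun k => Dat.gensP.getD k 0) (Dat.wordsP.getD x []) = x ∧
      (∀ k ∈ Dat.wordsP.getD x [], k < 3) ∧ (isI x = true → clsI (pos x) = Dat.clsP.getD x 0) ∧
      rA x < 32 ∧ rB x < 32 := by
  have h := pos_ok
  simp only [okPos, Bool.and_eq_true] at h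
  obtain ⟨⟨⟨⟨⟨⟨⟨⟨⟨-, h0⟩, -⟩, -⟩, -⟩, -⟩, -⟩, -⟩, -⟩, -⟩ := h
  have h1 := allLo_spec h0 hx
  simp only [Bool.and_eq_true, Bool.or_eq_true, Bool.not_eq_true', Nat.blt_eq, Nat.beq_eq, List.all_eq_true] at h1
  obtain ⟨⟨⟨⟨⟨⟨⟨⟨a, b⟩, c⟩, -⟩, e⟩, f⟩, g⟩, i⟩, j⟩ := h1
  exact ⟨a, b, c, e, f, fun hi => g.resolve_left (by rw [hi]; simp), i, j⟩

theorem special_pos : eP Dat.onep = 1 ∧ eP Dat.tp = hx ^ 2 ∧ eP Dat.apos = elA ∧ eP Dat.wp = elAT := by
  have h := pos_ok
  simp only [okPos, Bool.and_eq_true, Nat.beq_eq] at h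
  obtain ⟨⟨⟨⟨⟨⟨⟨⟨-, h0⟩, h1⟩, h2⟩, h3⟩, -⟩, -⟩, -⟩, -⟩ := h
  refine ⟨?_, ?_, ?_, ?_⟩
  · rw [eP, h0, eS_zero]
  · rw [eP, h1]; exact special_spec.2.2.2.1
  · rw [eP, h2, elA]
  · rw [eP, h3, elAT]

theorem mulP_spec {x y : ℕ} (hx : x < 32) (hy : y < 32) : mulP x y < 32 ∧ eP x * eP y = eP (mulP x y) := by
  have h := allLo_spec (allLo_spec mul_ok hx) hy
  simp only [Bool.and_eq_true, Nat.blt_eq, Nat.beq_eq] at h
  exact ⟨h.1, (mul_eq_iff (pos_spec hx).1 (pos_spec hy).1 (pos_spec h.1).1).1 h.2⟩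

theorem eP_inv {x : ℕ} (hx : x < 32) : (eP x)⁻¹ = eP (invOf x) := by
  obtain ⟨-, hi, he, -⟩ := pos_spec hx
  refine inv_eq_of_mul_eq_one_right ?_
  rw [(mulP_spec hx hi).2, he, special_pos.1]

theorem cjP_spec {p x : ℕ} (hp : p < 32) (hx : x < 32) : cjP p x < 32 ∧ eP p * eP x * (eP p)⁻¹ = eP (cjP p x) := by
  obtain ⟨-, hi, -⟩ := pos_spec hp
  obtain ⟨h1, h2⟩ := mulP_spec hp hx
  obtain ⟨h3, h4⟩ := mulP_spec h1 hi
  exact ⟨h3, by rw [eP_inv hp, h2, h4]; rfl⟩

theorem eP_inj {x y : ℕ} (hx : x < 32) (hy : y < 32) (h : eP x = eP y) : x = y := by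
  have key : ∀ {u v : ℕ}, u < v → v < 32 → pos u < pos v := by
    intro u v huv hv
    induction v with
    | zero => omega
    | succ v ih =>
      have h' := pos_ok
      simp only [okPos, Bool.and_eq_true] at h'
      obtain ⟨⟨⟨⟨⟨⟨⟨⟨⟨-, h0⟩, -⟩, -⟩, -⟩, -⟩, -⟩, -⟩, -⟩, -⟩ := h'
      have h1 := allLo_spec h0 (show v < 32 by omega)
      simp only [Bool.and_eq_true, Bool.or_eq_true, Nat.blt_eq, Nat.beq_eq] at h1
      have h2 := h1.1.1.1.1.1.2.resolve_left (by omega)
      rcases Nat.lt_succ_iff_lt_or_eq.1 huv with h3 | rfl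
      · exact (ih h3 (by omega)).trans h2
      · exact h2
  have e := eS_injective (pos_spec hx).1 (pos_spec hy).1 h
  rcases lt_trichotomy x y with h' | h' | h'
  · exact absurd e (key h' hy).ne
  · exact h'
  · exact absurd e.symm (key h' hx).ne

/-- A word of generator positions. -/
theorem eP_evalW (im : ℕ → ℕ) : ∀ (w : List ℕ), (∀ k ∈ w, im k < 32) →
    evalW im w < 32 ∧ eP (evalW im w) = (w.map fun k => eP (im k)).prod := by
  intro w
  induction w using List.reverseRecOn with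
  | nil => exact fun _ => ⟨show Dat.onep < 32 by decide, special_pos.1⟩
  | append_singleton w k ih =>
    intro h
    obtain ⟨h1, h2⟩ := ih fun j hj => h j (List.mem_append_left _ hj)
    have hk := h k (List.mem_append_right _ (List.mem_singleton_self k))
    have e : evalW im (w ++ [k]) = mulP (evalW im w) (im k) := by
      simp [evalW, List.foldl_append]
    rw [e]
    refine ⟨(mulP_spec h1 hk).1, ?_⟩
    rw [← (mulP_spec h1 hk).2, h2]
    simp

theorem gens_lt32 {k : ℕ} (hk : k < 3) : Dat.gensP.getD k 0 < 32 := by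
  have h := pos_ok
  simp only [okPos, Bool.and_eq_true] at h
  obtain ⟨⟨⟨⟨-, h0⟩, -⟩, -⟩, -⟩ := h
  exact Nat.blt_eq ▸ allLo_spec h0 hk

theorem eltsE_spec {x : ℕ} (hx : x ∈ Dat.eltsE) : x < 32 ∧ rA x ∈ Dat.eltsE ∧ rB x ∈ Dat.eltsE := by
  have h := pos_ok
  simp only [okPos, Bool.and_eq_true, List.all_eq_true, Nat.blt_eq, List.any_eq_true, Nat.beq_eq] at h
  obtain ⟨y, hy, e⟩ := h.1.2 x hx
  obtain ⟨y', hy', e'⟩ := h.2 x hx
  exact ⟨h.1.1.2 x hx, e ▸ hy, e' ▸ hy'⟩

theorem el_cat (u v : List ℕ) : el (u ++ v) = el u * el v := el_append u v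

theorem elts_spec :
    (eE * eE * eE = 1 ∧ eE * el Dat.rAW = el Dat.rAW * eE ∧ eE * el Dat.rBW = el Dat.rBW * eE ∧
      eE * el Dat.fiveW = el Dat.fiveW * eE) ∧
    (el Dat.fiveW ^ 5 = 1 ∧ el Dat.fiveW * eP Dat.zp = eP Dat.zp * el Dat.fiveW) ∧
    (el Dat.dFiveW ^ 5 = 1 ∧ el Dat.dFiveW * elA = elA * el Dat.dFiveW) ∧
    (eS Dat.invI * eE = eE * eE * eS Dat.invI ∧ Dat.invI < 2048) ∧
    (∀ k < 3, eE * eP (Dat.gensP.getD k 0) = eP (Dat.gensP.getD k 0) * eE) ∧
    ∀ x ∈ Dat.eltsE, el Dat.rAW * eP x * (el Dat.rAW)⁻¹ = eP (rA x) ∧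
      el Dat.rBW * eP x * (el Dat.rBW)⁻¹ = eP (rB x) := by
  have h := elts_ok
  simp only [okElts, Bool.and_eq_true, Bool.not_eq_true', List.all_eq_true, commW, okConjPos, Nat.blt_eq] at h
  obtain ⟨⟨⟨⟨⟨⟨⟨⟨⟨⟨⟨⟨⟨⟨⟨⟨⟨⟨⟨-, -⟩, -⟩, -⟩, -⟩, he3⟩, -⟩, hg⟩, hA⟩, hB⟩, hf⟩, hf5⟩, -⟩, hfz⟩, hd5⟩, -⟩, hda⟩, hil⟩, hinv⟩, hE⟩ := h
  refine ⟨⟨?_, ?_, ?_, ?_⟩, ⟨?_, ?_⟩, ⟨?_, ?_⟩, ⟨?_, hil⟩, fun k hk => ?_, fun x hx => ⟨?_, ?_⟩⟩
  · have := el_eq he3
    simpa [eE, el_cat, el_nil, mul_assoc] using this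
  · have := el_eq hA
    simpa [eE, el_cat] using this
  · have := el_eq hB
    simpa [eE, el_cat] using this
  · have := el_eq hf
    simpa [eE, el_cat] using this
  · have := el_eq hf5
    simpa [el_cat, el_nil, pow_succ, mul_assoc] using this
  · have := el_eq hfz
    simpa [el_cat, eP, eS] using this
  · have := el_eq hd5
    simpa [el_cat, el_nil, pow_succ, mul_assoc] using this
  · have := el_eq hda
    simpa [el_cat, elA, eS] using this
  · have := el_eq hinv
    simpa [eE, el_cat, eS, mul_assoc] using this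
  · have := el_eq (allLo_spec hg hk)
    simpa [eE, el_cat, eP, eS] using this
  · have := el_eq (hE x hx).1
    simpa [el_cat, el_winv, eP, eS, mul_assoc] using this
  · have := el_eq (hE x hx).2
    simpa [el_cat, el_winv, eP, eS, mul_assoc] using this

theorem five_ne : eE ≠ 1 ∧ el Dat.fiveW ≠ 1 ∧ el Dat.dFiveW ≠ 1 := by
  have hl : (letOK 5 Dat.eW && letOK 5 Dat.fiveW && letOK 5 Dat.dFiveW) = true := by decide +kernel
  have hk : (!Nat.beq (keyW Dat.eW) (keyW []) && !Nat.beq (keyW Dat.fiveW) (keyW []) &&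
      !Nat.beq (keyW Dat.dFiveW) (keyW [])) = true := by decide +kernel
  simp only [Bool.and_eq_true] at hl hk
  refine ⟨fun e => ?_, fun e => ?_, fun e => ?_⟩
  · have := (keyW_eq_iff hl.1.1 (v := []) rfl).2 e
    simp [this] at hk
  · have := (keyW_eq_iff hl.1.2 (v := []) rfl).2 e
    simp [this] at hk
  · have := (keyW_eq_iff hl.2 (v := []) rfl).2 e
    simp [this] at hk

theorem eE_comm {x : ℕ} (hx : x < 32) : eE * eP x = eP x * eE := by
  obtain ⟨-, -, -, hev, hk, -⟩ := pos_spec hx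
  obtain ⟨-, e⟩ := eP_evalW (fun k => Dat.gensP.getD k 0) _ fun k hk' => gens_lt32 (hk k hk')
  rw [hev] at e
  rw [e]
  refine Commute.list_prod_right _ _ fun y hy => ?_
  obtain ⟨k, hk', rfl⟩ := List.mem_map.1 hy
  exact elts_spec.2.2.2.2.1 k (hk k hk')

theorem elA_comm {x : ℕ} (hx : x < 32) : elA * eP x = eP x * elA := by
  have h : ∀ p < 32, cjP p Dat.apos = Dat.apos := by
    intro p hp
    have hh : allLo (fun p => Nat.beq (cjP p Dat.apos) Dat.apos) 32 = true := by decide +kernel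
    exact Nat.beq_eq ▸ allLo_spec hh hp
  have e := (cjP_spec hx (x := Dat.apos) (by decide)).2
  rw [h x hx, special_pos.2.2.1] at e
  calc elA * eP x = eP x * elA * (eP x)⁻¹ * eP x := by rw [e]
    _ = eP x * elA := by group

theorem eE_elA : eE * elA = elA * eE := by
  have := eE_comm (x := Dat.apos) (by decide)
  rwa [special_pos.2.2.1] at this

theorem eP_pow {x : ℕ} (hx : x < 32) : eP x ^ 2048 = 1 := by
  have h : (⟨eP x, eS_mem _ (pos_spec hx).1⟩ : Syl) ^ 2048 = 1 := by
    have h' := pow_card_eq_one' (G := Syl) (x := ⟨eP x, eS_mem _ (pos_spec hx).1⟩)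
    rwa [card_Syl] at h'
  exact congrArg Subtype.val h

theorem order_eE : orderOf eE = 3 := by
  haveI : Fact (Nat.Prime 3) := ⟨Nat.prime_three⟩
  refine orderOf_eq_prime ?_ five_ne.1
  rw [pow_succ, pow_two]
  exact elts_spec.1.1

/-- The centraliser of `a`. -/
abbrev CA : Subgroup H0 := Subgroup.centralizer {elA}

theorem card_CA : Nat.card CA = 30720 := by
  haveI := finite_H0
  -- lower bound for the number of conjugates
  have hspec : ∀ i < Dat.orbALen, letOK 5 (unp (Dat.orbAW.get i)) = true ∧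
      keyW (winv iv5 (unp (Dat.orbAW.get i)) ++ wd iA ++ unp (Dat.orbAW.get i)) = Dat.orbAK.get i ∧
      (i + 1 < Dat.orbALen → Dat.orbAK.get i < Dat.orbAK.get (i + 1)) := by
    intro i hi
    have h := allLo_spec orbA_ok hi
    simp only [okOrbA, Bool.and_eq_true, Bool.or_eq_true, Nat.blt_eq, Nat.beq_eq] at h
    exact ⟨h.1.1, h.1.2, fun hh => h.2.resolve_left (by omega)⟩
  have hmono : ∀ {i j : ℕ}, i < j → j < Dat.orbALen → Dat.orbAK.get i < Dat.orbAK.get j := by
    intro i j hij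
    induction j with
    | zero => omega
    | succ j ih =>
      intro hj
      have := (hspec j (by omega)).2.2 hj
      rcases Nat.lt_succ_iff_lt_or_eq.1 hij with h3 | rfl
      · exact (ih h3 (by omega)).trans this
      · exact this
  have hinj : Function.Injective
      (fun i : Fin Dat.orbALen => (QuotientGroup.mk ((el (unp (Dat.orbAW.get i)))⁻¹) : H0 ⧸ CA)) := by
    intro i j h
    have hm := QuotientGroup.eq.1 h
    rw [inv_inv, Subgroup.mem_centralizer_singleton_iff] at hm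
    have hi := hspec i i.2; have hj := hspec j j.2
    have e : el (winv iv5 (unp (Dat.orbAW.get i)) ++ wd iA ++ unp (Dat.orbAW.get i)) =
        el (winv iv5 (unp (Dat.orbAW.get j)) ++ wd iA ++ unp (Dat.orbAW.get j)) := by
      simp only [el_cat, el_winv]
      set u := el (unp (Dat.orbAW.get i)); set v := el (unp (Dat.orbAW.get j))
      change u * v⁻¹ * el (wd iA) = el (wd iA) * (u * v⁻¹) at hm
      calc u⁻¹ * el (wd iA) * u = u⁻¹ * (el (wd iA) * (u * v⁻¹)) * v := by group
        _ = u⁻¹ * (u * v⁻¹ * el (wd iA)) * v := by rw [hm]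
        _ = v⁻¹ * el (wd iA) * v := by group
    have hA := (word_spec special_spec.2.1).1
    rw [← keyW_eq_iff (letOK_cat (letOK_cat (letOK_winv hi.1) hA) hi.1)
      (letOK_cat (letOK_cat (letOK_winv hj.1) hA) hj.1), hi.2.1, hj.2.1] at e
    rcases lt_trichotomy i.1 j.1 with h' | h' | h'
    · exact absurd e (hmono h' j.2).ne
    · exact Fin.ext h'
    · exact absurd e.symm (hmono h' i.2).ne
  have hidx : 1927 ≤ CA.index := by
    have := Nat.card_le_card_of_injective _ hinj
    rwa [Nat.card_fin] at this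
  have hmul := CA.card_mul_index
  rw [card_H0] at hmul
  -- divisibility
  have h11 : 2048 ∣ Nat.card CA := by
    rw [← card_Syl]
    refine Subgroup.card_dvd_of_le fun s hs => Subgroup.mem_centralizer_singleton_iff.2 ?_
    obtain ⟨i, hi, rfl⟩ := mem_Syl.1 hs
    have hA : allLo (fun i => commI i iA) 2048 = true := by decide +kernel
    exact (commI_iff hi special_spec.2.1).1 (allLo_spec hA hi)
  have h3 : 3 ∣ Nat.card CA := by
    have := orderOf_dvd_natCard (⟨eE, Subgroup.mem_centralizer_singleton_iff.2 eE_elA⟩ : CA)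
    rwa [Subgroup.orderOf_mk, order_eE] at this
  have h5 : 5 ∣ Nat.card CA := by
    haveI : Fact (Nat.Prime 5) := ⟨Nat.prime_five⟩
    have := orderOf_dvd_natCard
      (⟨el Dat.dFiveW, Subgroup.mem_centralizer_singleton_iff.2 elts_spec.2.2.1.2⟩ : CA)
    rwa [Subgroup.orderOf_mk, orderOf_eq_prime elts_spec.2.2.1.1 five_ne.2.2] at this
  have hd : 30720 ∣ Nat.card CA :=
    (by norm_num : Nat.Coprime (2048 * 3) 5).mul_dvd_of_dvd_of_dvd
      ((by norm_num : Nat.Coprime 2048 3).mul_dvd_of_dvd_of_dvd h11 h3) h5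
  obtain ⟨q, hq⟩ := hd
  rw [hq] at hmul ⊢
  rcases q with _ | _ | _ | q
  · omega
  · rfl
  · omega
  · exfalso
    have : 30720 * 3 * 1927 ≤ 30720 * (q + 1 + 1 + 1) * CA.index :=
      Nat.mul_le_mul (Nat.mul_le_mul_left _ (by omega)) hidx
    omega

/-- An element of the centraliser of `a` and `eE` is a power of `eE` times a position. -/
theorem cent_A_E {g : H0} (ha : g * elA = elA * g) (he : g * eE = eE * g) :
    ∃ i < 3, ∃ x < 32, g = eE ^ i * eP x := by
  classical
  haveI := finite_H0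
  let C2 : Subgroup H0 := CA ⊓ Subgroup.centralizer {eE}
  have hsub : ∀ (i : Fin 3) (x : Fin 32), eE ^ (i : ℕ) * eP x ∈ C2 := fun i x => by
    refine ⟨Subgroup.mem_centralizer_singleton_iff.2 ?_, Subgroup.mem_centralizer_singleton_iff.2 ?_⟩
    · exact ((Commute.pow_left eE_elA _).mul_left (elA_comm x.2).symm).eq
    · exact ((Commute.pow_left rfl _).mul_left (eE_comm x.2).symm).eq
  let F : Fin 3 × Fin 32 → C2 := fun z => ⟨_, hsub z.1 z.2⟩
  have hF : Function.Injective F := by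
    rintro ⟨i, x⟩ ⟨j, y⟩ h
    have h' : eE ^ (i : ℕ) * eP x = eE ^ (j : ℕ) * eP y := congrArg Subtype.val h
    obtain ⟨hr, er⟩ := mulP_spec y.2 (pos_spec x.2).2.1
    have e1 : eE ^ (i : ℕ) = eE ^ (j : ℕ) * eP (mulP y (invOf x)) := by
      rw [← er, ← eP_inv x.2, ← mul_assoc, ← h', mul_inv_cancel_right]
    have e2 : eP (mulP y (invOf x)) = eE ^ ((i : ℕ) + 2 * j) := by
      have h3 : eE ^ 3 = 1 := by
        have h' := pow_orderOf_eq_one eE
        rwa [order_eE] at h'
      rw [pow_add, (Commute.pow_pow_self eE _ _).eq, e1, ← mul_assoc, ← pow_add,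
        show 2 * (j : ℕ) + j = 3 * j by ring, pow_mul, h3, one_pow, one_mul]
    have e3 : eP (mulP y (invOf x)) = 1 := by
      have p2 := eP_pow hr
      have p3 : eP (mulP y (invOf x)) ^ 3 = 1 := by
        have h' := pow_orderOf_eq_one eE
        rw [order_eE] at h'
        rw [e2, ← pow_mul, mul_comm, pow_mul, h', one_pow]
      have hg := pow_gcd_eq_one.2 ⟨p2, p3⟩
      rwa [show Nat.gcd 2048 3 = 1 by decide, pow_one] at hg
    have hxy : x = y := by
      refine Fin.ext (eP_inj x.2 y.2 ?_)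
      rw [← er, ← eP_inv x.2] at e3
      exact (mul_inv_eq_one.1 e3).symm
    rw [e3, mul_one] at e1
    have hij := pow_injOn_Iio_orderOf (x := eE) (by rw [Set.mem_Iio, order_eE]; exact i.2)
      (by rw [Set.mem_Iio, order_eE]; exact j.2) e1
    exact Prod.ext (Fin.ext hij) hxy
  -- lower bound for the number of conjugates of `eE`
  have hspec : ∀ i < Dat.orbELen, Dat.orbEW.get i >>> 3 < 2048 ∧
      keyW (winv iv5 (orbEWord i) ++ Dat.eW ++ orbEWord i) = Dat.orbEK.get i ∧
      (i + 1 < Dat.orbELen → Dat.orbEK.get i < Dat.orbEK.get (i + 1)) := by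
    intro i hi
    have h := allLo_spec orbE_ok hi
    simp only [okOrbE, Bool.and_eq_true, Bool.or_eq_true, Nat.blt_eq, Nat.beq_eq] at h
    exact ⟨h.1.1, h.1.2, fun hh => h.2.resolve_left (by omega)⟩
  have hmono : ∀ {i j : ℕ}, i < j → j < Dat.orbELen → Dat.orbEK.get i < Dat.orbEK.get j := by
    intro i j hij
    induction j with
    | zero => omega
    | succ j ih =>
      intro hj
      have := (hspec j (by omega)).2.2 hj
      rcases Nat.lt_succ_iff_lt_or_eq.1 hij with h3 | rfl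
      · exact (ih h3 (by omega)).trans this
      · exact this
  have hword : ∀ i < Dat.orbELen, letOK 5 (orbEWord i) = true ∧ el (orbEWord i) ∈ CA := by
    intro i hi
    have hs := (hspec i hi).1
    constructor
    · refine letOK_cat ?_ (word_spec hs).1
      have hd : letOK 5 Dat.dFiveW = true := by decide +kernel
      induction Nat.land (Dat.orbEW.get i) 7 with
      | zero => rfl
      | succ k ih => rw [List.replicate_succ, List.flatten_cons]; exact letOK_cat hd ih
    · rw [orbEWord, el_cat]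
      refine mul_mem ?_ ?_
      · induction Nat.land (Dat.orbEW.get i) 7 with
        | zero => exact one_mem CA
        | succ k ih =>
          rw [List.replicate_succ, List.flatten_cons, el_cat]
          exact mul_mem (Subgroup.mem_centralizer_singleton_iff.2 elts_spec.2.2.1.2) ih
      · have hA : allLo (fun i => commI i iA) 2048 = true := by decide +kernel
        exact Subgroup.mem_centralizer_singleton_iff.2
          ((commI_iff hs special_spec.2.1).1 (allLo_spec hA hs))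
  have hinj : Function.Injective (fun i : Fin Dat.orbELen =>
      (QuotientGroup.mk ((⟨el (orbEWord i), (hword i i.2).2⟩ : CA)⁻¹) : CA ⧸ C2.subgroupOf CA)) := by
    intro i j h
    have hm := QuotientGroup.eq.1 h
    rw [inv_inv, Subgroup.mem_subgroupOf] at hm
    have hm' := Subgroup.mem_centralizer_singleton_iff.1 hm.2
    have hi := hspec i i.2; have hj := hspec j j.2
    have e : el (winv iv5 (orbEWord i) ++ Dat.eW ++ orbEWord i) =
        el (winv iv5 (orbEWord j) ++ Dat.eW ++ orbEWord j) := by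
      simp only [el_cat, el_winv]
      set u := el (orbEWord i); set v := el (orbEWord j)
      change u * v⁻¹ * el Dat.eW = el Dat.eW * (u * v⁻¹) at hm'
      calc u⁻¹ * el Dat.eW * u = u⁻¹ * (el Dat.eW * (u * v⁻¹)) * v := by group
        _ = u⁻¹ * (u * v⁻¹ * el Dat.eW) * v := by rw [hm']
        _ = v⁻¹ * el Dat.eW * v := by group
    have hE : letOK 5 Dat.eW = true := by decide +kernel
    have wi := (hword i i.2).1; have wj := (hword j j.2).1
    rw [← keyW_eq_iff (letOK_cat (letOK_cat (letOK_winv wi) hE) wi)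
      (letOK_cat (letOK_cat (letOK_winv wj) hE) wj), hi.2.1, hj.2.1] at e
    rcases lt_trichotomy i.1 j.1 with h' | h' | h'
    · exact absurd e (hmono h' j.2).ne
    · exact Fin.ext h'
    · exact absurd e.symm (hmono h' i.2).ne
  have hidx : 320 ≤ (C2.subgroupOf CA).index := by
    have := Nat.card_le_card_of_injective _ hinj
    rwa [Nat.card_fin] at this
  have hmul := (C2.subgroupOf CA).card_mul_index
  rw [card_CA, Nat.card_congr (Subgroup.subgroupOfEquivOfLe (inf_le_left : C2 ≤ CA)).toEquiv] at hmul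
  have hle : Nat.card C2 ≤ 96 := by
    by_contra hh
    push Not at hh
    have h97 : 97 * 320 ≤ Nat.card C2 * (C2.subgroupOf CA).index := Nat.mul_le_mul hh hidx
    have : Nat.card C2 * (C2.subgroupOf CA).index = 30720 := hmul
    nlinarith
  have hbij : Function.Bijective F := by
    refine (Nat.bijective_iff_injective_and_card F).2 ⟨hF, le_antisymm (Nat.card_le_card_of_injective F hF) ?_⟩
    rw [Nat.card_prod, Nat.card_fin, Nat.card_fin]
    exact hle
  obtain ⟨⟨i, x⟩, hz⟩ := hbij.2 ⟨g, Subgroup.mem_centralizer_singleton_iff.2 ha,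
    Subgroup.mem_centralizer_singleton_iff.2 he⟩
  exact ⟨i, i.2, x, x.2, (congrArg Subtype.val hz).symm⟩

end

end Cfsg.Agent.HNRecog.Assign
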