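import Cfsg.Agent.Lib.HNRecog.Assign.Defs

/-! The automorphisms of the subgroup of order 32 that respect the classes. -/

set_option autoImplicit false
set_option maxRecDepth 100000
set_option maxHeartbeats 0

namespace Cfsg.Agent.HNRecog.Assign

theorem scan_both : okScan true true [] = true := by decide +kernel

theorem scan_none : okScan false false [] = true := by decide +kernel

theorem scan_twist : okScan false true Dat.candsP = true := by decide +kernel

theorem cands_ok : okCands = true := by decide +kernel

end Cfsg.Agent.HNRecog.Assign
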