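import Cfsg.Agent.Lib.HNRecog.Local.TableDefs
import Cfsg.Agent.Lib.HNRecog.Assign.Data

/-!
Checks for the assignment of classes: the table of a subgroup of order 32, the automorphisms interchanging two
of its central involutions that respect the classes, and what each of them implies.
-/

set_option autoImplicit false
set_option maxRecDepth 100000

namespace Cfsg.Agent.HNRecog.Assign

open Cfsg.Agent.HN

noncomputable section

/-- Field `i` of five bits. -/
def fld5 (v i : ℕ) : ℕ := Nat.land (Nat.shiftRight v (Nat.mul 5 i)) 31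

/-- The entry of a position. -/
def pos (x : ℕ) : ℕ := Dat.posP.getD x 0

/-- The product of positions. -/
def mulP (x y : ℕ) : ℕ := fld5 (Dat.rowsP.getD x 0) y

/-- The inverse of a position. -/
def invOf (x : ℕ) : ℕ := Dat.invP.getD x 0

/-- Conjugate of a position. -/
def cjP (p x : ℕ) : ℕ := mulP (mulP p x) (invOf p)

/-- Equal up to `w`. -/
def eqw (x y : ℕ) : Bool := Nat.beq x y || Nat.beq x (mulP y Dat.wp)

/-- An involution. -/
def isI (x : ℕ) : Bool := Nat.beq (mulP x x) Dat.onep && !Nat.beq x Dat.onep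

/-- The first three classes of involutions are known, the two outer ones are variables. -/
def labOf (bC bD : Bool) (c : ℕ) : Bool :=
  bif Nat.blt c 2 then true else bif Nat.beq c 2 then false else bif Nat.beq c 3 then bC else bD

/-- The label of an involution. -/
def lab (bC bD : Bool) (x : ℕ) : Bool := labOf bC bD (Dat.clsP.getD x 0)

/-- The image by a map given on the generators. -/
def evalW (im : ℕ → ℕ) (w : List ℕ) : ℕ := w.foldl (fun acc k => mulP acc (im k)) Dat.onep

/-- The map given on the generators. -/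
def phiOf (v0 v1 v2 x : ℕ) : ℕ := evalW (fun k => [v0, v1, v2].getD k 0) (Dat.wordsP.getD x [])

/-- A possible image of a generator. -/
def okImg (bC bD : Bool) (k v : ℕ) : Bool :=
  let g := Dat.gensP.getD k 0
  (isI g && isI v && Bool.rec (!lab bC bD v) (lab bC bD v) (lab bC bD g)) || (!isI g && !isI v)

/-- An automorphism interchanging the two involutions and respecting the labels. -/
def validPhi (bC bD : Bool) (v0 v1 v2 : ℕ) : Bool :=
  let f := phiOf v0 v1 v2
  Nat.beq (f Dat.tp) Dat.apos && Nat.beq (f Dat.apos) Dat.tp &&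
    allLo (fun x => allLo (fun k =>
      Nat.beq (f (mulP x (Dat.gensP.getD k 0))) (mulP (f x) ([v0, v1, v2].getD k 0))) 3) 32 &&
    allLo (fun x => Nat.beq x Dat.onep || !Nat.beq (f x) Dat.onep) 32 &&
    allLo (fun x => !isI x || Bool.rec (!lab bC bD (f x)) (lab bC bD (f x)) (lab bC bD x)) 32

/-- The listed maps are all. -/
def okScan (bC bD : Bool) (cands : List ℕ) : Bool :=
  allLo (fun v0 => !okImg bC bD 0 v0 || allLo (fun v1 => !okImg bC bD 1 v1 || allLo (fun v2 =>
    !okImg bC bD 2 v2 || !validPhi bC bD v0 v1 v2 ||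
      cands.any fun c => allLo (fun x => Nat.beq (fld5 c x) (phiOf v0 v1 v2 x)) 32) 32) 32) 32

/-- The first permutation of the abelian subgroup. -/
def rA (x : ℕ) : ℕ := fld5 Dat.permA x

/-- The second permutation. -/
def rB (x : ℕ) : ℕ := fld5 Dat.permB x

/-- The composite used in the good case. -/
def gw (f : ℕ → ℕ) (x : ℕ) : ℕ := rB (f (rA (f (rA x))))

/-- The composite used in the bad case. -/
def bw (f : ℕ → ℕ) (x : ℕ) : ℕ := rA (f (rB (f (rB (f (rA (f (rA (f x)))))))))

/-- An automorphism of the wrong parity. -/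
def okBad (f : ℕ → ℕ) : Bool :=
  Nat.beq (bw f Dat.tp) Dat.tp && Nat.beq (bw f Dat.apos) Dat.apos &&
    allLo (fun p => Dat.eltsE.any fun x => !Nat.beq (cjP p x) (bw f x)) 32

/-- Both lifts are in the class of `t`. -/
def isTT (x : ℕ) : Bool :=
  isI x && isI (mulP x Dat.wp) && lab false true x && lab false true (mulP x Dat.wp)

/-- No lift is in the class of `t`. -/
def isFF (x : ℕ) : Bool :=
  isI x && isI (mulP x Dat.wp) && !lab false true x && !lab false true (mulP x Dat.wp)

/-- The three special involutions. -/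
def uList (f : ℕ → ℕ) : List ℕ := [Dat.tp, gw f Dat.tp, gw f (gw f Dat.tp)]

/-- The second or third power of the composite separates a translate from its conjugates. -/
def okFuse (f : ℕ → ℕ) (p : ℕ) : Bool :=
  allLo (fun p' => Dat.eltsE.any fun x => !Nat.beq (gw f (f (cjP p x))) (f (cjP p' (gw f x)))) 32 ||
    allLo (fun p' => Dat.eltsE.any fun x =>
      !Nat.beq (gw f (gw f (f (cjP p x)))) (f (cjP p' (gw f (gw f x))))) 32

/-- A centralised product. -/
def okJ (f : ℕ → ℕ) (j : ℕ) : Bool :=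
  let u1 := Dat.tp
  let u2 := gw f Dat.tp
  let u3 := gw f (gw f Dat.tp)
  !eqw j Dat.onep && eqw (cjP u1 j) j && eqw (cjP u2 j) j && eqw (cjP u3 j) j &&
    allLo (fun p => !eqw (cjP p j) j || allLo (fun q => !eqw (cjP q j) j || eqw (mulP p q) (mulP q p)) 32) 32 &&
    allLo (fun p => !eqw (f (cjP p j)) j || allLo (fun q => !eqw (cjP q j) j || eqw (f (cjP p q)) q) 32) 32 &&
    ((Nat.beq (mulP u1 j) (mulP j u1) && !Nat.beq (mulP u2 j) (mulP j u2) && !Nat.beq (mulP u3 j) (mulP j u3)) ||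
      (!Nat.beq (mulP u1 j) (mulP j u1) && Nat.beq (mulP u2 j) (mulP j u2) && !Nat.beq (mulP u3 j) (mulP j u3)) ||
      (!Nat.beq (mulP u1 j) (mulP j u1) && !Nat.beq (mulP u2 j) (mulP j u2) && Nat.beq (mulP u3 j) (mulP j u3)))

/-- The facts about an automorphism of the right parity. -/
def okGood (f : ℕ → ℕ) : Bool :=
  let u1 := Dat.tp
  let u2 := gw f Dat.tp
  let u3 := gw f (gw f Dat.tp)
  Dat.eltsE.all (fun x => Dat.eltsE.any fun y => Nat.beq y (f x)) &&
    Nat.beq (gw f Dat.wp) Dat.wp &&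
    (uList f).all (fun u => isTT u && eqw (f u) u && allLo (fun p => eqw (cjP p u) u) 32) &&
    allLo (fun x => !isTT x || eqw x u1 || eqw x u2 || eqw x u3) 32 &&
    !eqw u1 u2 && eqw (mulP u1 u2) u3 && eqw (gw f u3) u1 &&
    allLo (okFuse f) 32 && isFF Dat.vp &&
    allLo (fun x => !isFF x || (okJ f (mulP u1 x) && okJ f (mulP u2 x) && okJ f (mulP u3 x))) 32 &&
    (Nat.beq (rA (f Dat.zp)) Dat.wp || Nat.beq (rB (f Dat.zp)) Dat.wp)

/-- Each listed automorphism is of one of the two sorts. -/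
def okCands : Bool := Dat.candsP.all fun c => okBad (fld5 c) || okGood (fld5 c)

/-- The positions. -/
def okPos : Bool :=
  Nat.beq Dat.posP.length 32 && Nat.beq Dat.rowsP.length 32 && Nat.beq Dat.wordsP.length 32 &&
    allLo (fun x => Nat.blt (pos x) 2048 && Nat.blt (invOf x) 32 && Nat.beq (mulP x (invOf x)) Dat.onep &&
      (Nat.beq (Nat.succ x) 32 || Nat.blt (pos x) (pos (Nat.succ x))) &&
      Nat.beq (evalW (fun k => Dat.gensP.getD k 0) (Dat.wordsP.getD x [])) x &&
      (Dat.wordsP.getD x []).all (fun k => Nat.blt k 3) &&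
      (!isI x || Nat.beq (clsI (pos x)) (Dat.clsP.getD x 0)) &&
      Nat.blt (rA x) 32 && Nat.blt (rB x) 32) 32 &&
    Nat.beq (pos Dat.onep) 0 && Nat.beq (pos Dat.tp) iT && Nat.beq (pos Dat.apos) iA && Nat.beq (pos Dat.wp) iAT &&
    allLo (fun k => Nat.blt (Dat.gensP.getD k 0) 32) 3 && Dat.eltsE.all (fun x => Nat.blt x 32) &&
    Dat.eltsE.all (fun x => Dat.eltsE.any fun y => Nat.beq y (rA x)) &&
    Dat.eltsE.all (fun x => Dat.eltsE.any fun y => Nat.beq y (rB x))

/-- The products of positions. -/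
def okMul (x : ℕ) : Bool :=
  allLo (fun y => Nat.blt (mulP x y) 32 && Nat.beq (actK (wd (pos y)) (kd (pos x))) (kd (pos (mulP x y)))) 32

/-- Conjugation of a position by a word is a position. -/
def okConjPos (w : List ℕ) (x y : ℕ) : Bool := eqH (w ++ wd (pos x) ++ winv iv5 w) (wd (pos y))

/-- Two words commute. -/
def commW (u v : List ℕ) : Bool := eqH (u ++ v) (v ++ u)

/-- The elements of orders three and five, and the two moving elements. -/
def okElts : Bool :=
  letOK 5 Dat.eW && letOK 5 Dat.rAW && letOK 5 Dat.rBW && letOK 5 Dat.fiveW && letOK 5 Dat.dFiveW &&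
    eqH (Dat.eW ++ Dat.eW ++ Dat.eW) [] && !eqH Dat.eW [] &&
    allLo (fun k => commW Dat.eW (wd (pos (Dat.gensP.getD k 0)))) 3 &&
    commW Dat.eW Dat.rAW && commW Dat.eW Dat.rBW && commW Dat.eW Dat.fiveW &&
    eqH (Dat.fiveW ++ Dat.fiveW ++ Dat.fiveW ++ Dat.fiveW ++ Dat.fiveW) [] && !eqH Dat.fiveW [] &&
    commW Dat.fiveW (wd (pos Dat.zp)) &&
    eqH (Dat.dFiveW ++ Dat.dFiveW ++ Dat.dFiveW ++ Dat.dFiveW ++ Dat.dFiveW) [] && !eqH Dat.dFiveW [] &&
    commW Dat.dFiveW (wd iA) && Nat.blt Dat.invI 2048 &&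
    eqH (wd Dat.invI ++ Dat.eW) (Dat.eW ++ Dat.eW ++ wd Dat.invI) &&
    Dat.eltsE.all (fun x => okConjPos Dat.rAW x (rA x) && okConjPos Dat.rBW x (rB x))

/-- The listed conjugates of `a`. -/
def okOrbA (i : ℕ) : Bool :=
  let w := unp (Dat.orbAW.get i)
  letOK 5 w && Nat.beq (keyW (winv iv5 w ++ wd iA ++ w)) (Dat.orbAK.get i) &&
    (Nat.beq (Nat.succ i) Dat.orbALen || Nat.blt (Dat.orbAK.get i) (Dat.orbAK.get (Nat.succ i)))

/-- The word of a conjugator in the centraliser of `a`. -/
def orbEWord (i : ℕ) : List ℕ :=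
  (List.replicate (Nat.land (Dat.orbEW.get i) 7) Dat.dFiveW).flatten ++ wd (Nat.shiftRight (Dat.orbEW.get i) 3)

/-- The listed conjugates of the element of order three. -/
def okOrbE (i : ℕ) : Bool :=
  Nat.blt (Nat.shiftRight (Dat.orbEW.get i) 3) 2048 &&
    Nat.beq (keyW (winv iv5 (orbEWord i) ++ Dat.eW ++ orbEWord i)) (Dat.orbEK.get i) &&
    (Nat.beq (Nat.succ i) Dat.orbELen || Nat.blt (Dat.orbEK.get i) (Dat.orbEK.get (Nat.succ i)))

/-- The classes of the two outer involutions in question. -/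
def okWitOuter : Bool :=
  letOK 5 Dat.witZ && letOK 5 Dat.witZU &&
    eqH (winv iv5 Dat.witZ ++ [4] ++ Dat.witZ) (wd (Cfsg.Agent.HNRecog.Dat.reps.getD 3 0)) &&
    eqH (winv iv5 Dat.witZU ++ [4, 2, 0, 2, 2, 2, 1, 3] ++ Dat.witZU) (wd (Cfsg.Agent.HNRecog.Dat.reps.getD 4 0))

end

end Cfsg.Agent.HNRecog.Assign
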