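import Cfsg.Agent.Lib.HNRecog.Assign.Quotient

/-!
With the two outer classes of involutions assigned the twisted way, a listed map of the right parity gives a
quotient with three commuting involutions and an element of order five that cannot exist.
-/

set_option autoImplicit false
set_option maxRecDepth 100000
set_option linter.style.haveILetI false

namespace Cfsg.Agent.HNRecog.Assign

open Cfsg.Agent.HN Cfsg.Agent.HNMult

noncomputable section

universe u

theorem small_facts : (!eqw Dat.tp Dat.onep && !eqw Dat.vp Dat.onep &&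
    isFF (mulP Dat.tp Dat.vp) && eqw (mulP Dat.tp (mulP Dat.tp Dat.vp)) Dat.vp) = true := by decide +kernel

namespace Ctx

variable {G : Type u} [Group G] [Finite G] (K : Ctx G)

/-- Every lift of square one has the property, and there is one. -/
def Both (P : G → Prop) (y : K.Y) : Prop :=
  (∃ g : K.CC, K.pr g = y ∧ g * g = 1) ∧ ∀ g : K.CC, K.pr g = y → g * g = 1 → P g

theorem both_conj {P : G → Prop} (hP : ∀ g h : G, P h → P (g * h * g⁻¹)) {y : K.Y} (h : K.Y) (hy : K.Both P y) :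
    K.Both P (h * y * h⁻¹) := by
  obtain ⟨k, rfl⟩ := K.pr_surj h
  obtain ⟨⟨g, hg, hg2⟩, hall⟩ := hy
  refine ⟨⟨k * g * k⁻¹, by rw [map_mul, map_mul, map_inv, hg], ?_⟩, fun g' hg' hg2' => ?_⟩
  · calc k * g * k⁻¹ * (k * g * k⁻¹) = k * (g * g) * k⁻¹ := by group
      _ = 1 := by rw [hg2]; group
  · have e := hall (k⁻¹ * g' * k) (by rw [map_mul, map_mul, map_inv, hg']; group)
      (by
        calc k⁻¹ * g' * k * (k⁻¹ * g' * k) = k⁻¹ * (g' * g') * k := by group
          _ = 1 := by rw [hg2']; group)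
    have := hP (k : G) _ e
    have e2 : (k : G) * ((k⁻¹ * g' * k : K.CC) : G) * (k : G)⁻¹ = g' := by
      simp only [Subgroup.coe_mul, Subgroup.coe_inv]; group
    rwa [e2] at this

theorem isConjT_conj (g h : G) (hh : IsConj K.t h) : IsConj K.t (g * h * g⁻¹) :=
  hh.trans (isConj_iff.2 ⟨g, rfl⟩)

theorem notConjT_conj (g h : G) (hh : ¬IsConj K.t h) : ¬IsConj K.t (g * h * g⁻¹) := fun e =>
  hh (e.trans (isConj_iff.2 ⟨g, rfl⟩ : IsConj h (g * h * g⁻¹)).symm)

/-- The lifts of square one of a position. -/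
theorem lift_mu {x : ℕ} (hx' : x < 32) {g : K.CC} (hg : K.pr g = K.mu x) (hg2 : g * g = 1) :
    mulP x x = Dat.onep ∧ ((g : G) = K.p x ∨ (g : G) = K.p (mulP x Dat.wp)) := by
  obtain ⟨z, hz, e⟩ := K.pr_eq.1 hg.symm
  have hzz : K.pC x * K.pC x * (z * z) = 1 := by
    rw [← hg2, ← e]
    calc K.pC x * K.pC x * (z * z) = K.pC x * (K.pC x * z) * z := by group
      _ = K.pC x * (z * K.pC x) * z := by rw [K.NN_comm hz (K.pC x)]
      _ = K.pC x * z * (K.pC x * z) := by group
  have hxx := (mulP_spec hx' hx').1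
  obtain ⟨i, j, hij⟩ := K.NN.inv_mem (K.NN.mul_mem hz hz)
  have hp : K.p (mulP x x) = K.e ^ i * K.w ^ j := by
    rw [← hij, ← K.p_mul hx' hx', ← K.pC_val hx', ← Subgroup.coe_mul, eq_inv_of_mul_eq_one_left hzz]
  have hz2 : (z * z : K.CC) = 1 := by
    rcases K.p_in_NN hxx hp with h | h
    · have : K.pC x * K.pC x = 1 := Subtype.ext (by
        rw [Subgroup.coe_mul, K.pC_val hx', K.p_mul hx' hx', h, K.p_special.1]; rfl)
      rw [this, one_mul] at hzz
      exact hzz
    · exfalso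
      obtain ⟨k, l, hkl⟩ := hz
      have hc : Commute (K.e ^ k) (K.w ^ l) := (Commute.pow_pow K.e_w) k l
      have e2 : K.w * (K.e ^ (2 * k)) = 1 := by
        have := congrArg (fun u : K.CC => (u : G)) hzz
        simp only [Subgroup.coe_mul, Subgroup.coe_one, K.pC_val hx', K.p_mul hx' hx', h, K.p_special.2.2.2, hkl] at this
        rw [← sq (K.e ^ k * K.w ^ l), hc.mul_pow, ← pow_mul, ← pow_mul, mul_comm l 2, pow_mul (K.w), pow_two K.w,
          K.w_sq, one_pow, mul_one, mul_comm k 2] at this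
        exact this
      have e3 : K.w = K.e ^ k := by
        calc K.w = K.w * K.e ^ (2 * k) * K.e ^ k := by
              rw [mul_assoc, ← pow_add, show 2 * k + k = 3 * k by ring, pow_mul, K.e_cube, one_pow, mul_one]
          _ = K.e ^ k := by rw [e2, one_mul]
      have e4 : K.w = 1 := by
        calc K.w = K.w ^ 3 := by rw [pow_succ, pow_two, K.w_sq, one_mul]
          _ = 1 := by rw [e3, ← pow_mul, mul_comm, pow_mul, K.e_cube, one_pow]
      rw [← K.p_special.2.2.2, ← K.p_special.1] at e4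
      exact absurd (K.p_inj (by decide) (by decide) e4) (by decide)
  have hxx1 : mulP x x = Dat.onep := by
    rw [hz2, mul_one] at hzz
    refine K.p_inj hxx (by decide) ?_
    rw [K.p_special.1, ← K.p_mul hx' hx', ← K.pC_val hx', ← Subgroup.coe_mul, hzz]
    rfl
  refine ⟨hxx1, ?_⟩
  rw [← e, Subgroup.coe_mul, K.pC_val hx']
  rcases K.NN_sq hz hz2 with h | h <;> rw [h]
  · exact Or.inl (mul_one _)
  · exact Or.inr (by rw [← K.p_special.2.2.2, K.p_mul hx' (by decide)])

theorem both_mu {P : G → Prop} {x : ℕ} (hx' : x < 32) (hne : eqw x Dat.onep = false) (h : K.Both P (K.mu x)) :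
    isI x = true ∧ isI (mulP x Dat.wp) = true ∧ P (K.p x) ∧ P (K.p (mulP x Dat.wp)) := by
  obtain ⟨⟨g, hg, hg2⟩, hall⟩ := h
  have hxx := (K.lift_mu hx' hg hg2).1
  have hw : Dat.wp < 32 := by decide
  obtain ⟨hxw, -⟩ := mulP_spec hx' hw
  have hnex : x ≠ Dat.onep ∧ mulP x Dat.wp ≠ Dat.onep := by
    rw [← Bool.not_eq_true, eqw_iff, not_or] at hne
    refine ⟨hne.1, fun e => hne.2 ?_⟩
    refine K.p_inj hx' (mulP_spec (by decide) hw).1 ?_
    have e' : K.p x * K.w = 1 := by rw [← K.p_special.2.2.2, K.p_mul hx' hw, e, K.p_special.1]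
    rw [← K.p_mul (by decide) hw, K.p_special.1, one_mul, K.p_special.2.2.2, eq_inv_of_mul_eq_one_left e',
      inv_eq_of_mul_eq_one_right K.w_sq]
  have hp1 : K.p x * K.p x = 1 := by rw [K.p_mul hx' hx', hxx, K.p_special.1]
  have hp2 : K.p (mulP x Dat.wp) * K.p (mulP x Dat.wp) = 1 := by
    rw [← K.p_mul hx' hw, K.p_special.2.2.2]
    calc K.p x * K.w * (K.p x * K.w) = K.p x * (K.w * K.p x) * K.w := by group
      _ = K.p x * (K.p x * K.w) * K.w := by rw [K.p_w hx']
      _ = K.p x * K.p x * (K.w * K.w) := by group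
      _ = 1 := by rw [hp1, K.w_sq, one_mul]
  have hmu : K.mu (mulP x Dat.wp) = K.mu x := (K.mu_iff hxw hx').2 (eqw_iff.2 (Or.inr rfl))
  refine ⟨(isI_spec hx').2 ⟨K.inj ?_, hnex.1⟩, (isI_spec hxw).2 ⟨K.inj ?_, hnex.2⟩, ?_, ?_⟩
  · rw [map_mul, map_one]; exact hp1
  · rw [map_mul, map_one]; exact hp2
  · rw [← K.pC_val hx']
    exact hall _ rfl (Subtype.ext (by rw [Subgroup.coe_mul, K.pC_val hx', hp1]; rfl))
  · rw [← K.pC_val hxw]
    exact hall _ hmu (Subtype.ext (by rw [Subgroup.coe_mul, K.pC_val hxw, hp2]; rfl))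

theorem both_of {P : G → Prop} {x : ℕ} (hx' : x < 32) (hI : isI x = true) (h1 : P (K.p x))
    (h2 : P (K.p (mulP x Dat.wp))) : K.Both P (K.mu x) := by
  refine ⟨⟨K.pC x, rfl, Subtype.ext ?_⟩, fun g hg hg2 => ?_⟩
  · rw [Subgroup.coe_mul, K.pC_val hx', p, ← map_mul, ((isI_spec hx').1 hI).1, map_one]
    rfl
  · rcases (K.lift_mu hx' hg hg2).2 with e | e <;> rw [e]
    exacts [h1, h2]

variable {c : ℕ} {n : G}

/-- The facts checked on a listed map of the right parity. -/
structure GoodFacts (F : ℕ → ℕ) : Prop where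
  gw_w : gw F Dat.wp = Dat.wp
  u_spec : ∀ u ∈ uList F, isTT u = true ∧ eqw (F u) u = true ∧ ∀ p < 32, eqw (cjP p u) u = true
  cover : ∀ x < 32, isTT x = true →
    eqw x Dat.tp = true ∨ eqw x (gw F Dat.tp) = true ∨ eqw x (gw F (gw F Dat.tp)) = true
  u12 : eqw Dat.tp (gw F Dat.tp) = false
  prod : eqw (mulP Dat.tp (gw F Dat.tp)) (gw F (gw F Dat.tp)) = true
  cycle : eqw (gw F (gw F (gw F Dat.tp))) Dat.tp = true
  fuse : ∀ p < 32, okFuse F p = true
  ff : isFF Dat.vp = true
  jj : ∀ x < 32, isFF x = true → okJ F (mulP Dat.tp x) = true ∧ okJ F (mulP (gw F Dat.tp) x) = true ∧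
    okJ F (mulP (gw F (gw F Dat.tp)) x) = true
  five : rA (F Dat.zp) = Dat.wp ∨ rB (F Dat.zp) = Dat.wp

theorem goodFacts {F : ℕ → ℕ} (h : okGood F = true) : GoodFacts F := by
  simp only [okGood, Bool.and_eq_true] at h
  obtain ⟨⟨⟨⟨⟨⟨⟨⟨⟨⟨-, hB⟩, hC⟩, hD⟩, hE1⟩, hE2⟩, hE3⟩, hF⟩, hG⟩, hH⟩, hI⟩ := h
  refine ⟨Nat.eq_of_beq_eq_true hB, fun u hu => ?_, fun x hx' ht => ?_, Bool.not_eq_true' _ ▸ hE1, hE2, hE3,
    fun p hp => allLo_spec hF hp, hG, fun x hx' hf => ?_, ?_⟩
  · have := List.all_eq_true.1 hC u hu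
    simp only [Bool.and_eq_true] at this
    exact ⟨this.1.1, this.1.2, fun p hp => allLo_spec this.2 hp⟩
  · have := allLo_spec hD hx'
    simp only [Bool.or_eq_true, Bool.not_eq_true', ht] at this
    rcases this with ((h | h) | h) | h
    · exact absurd h (by decide)
    · exact Or.inl h
    · exact Or.inr (Or.inl h)
    · exact Or.inr (Or.inr h)
  · have := allLo_spec hH hx'
    simp only [Bool.or_eq_true, Bool.not_eq_true', hf, Bool.and_eq_true] at this
    obtain ⟨⟨a, b⟩, d⟩ := this.resolve_left (by decide)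
    exact ⟨a, b, d⟩
  · simp only [Bool.or_eq_true, Nat.beq_eq] at hI
    exact hI

variable {K}

theorem isTT_of (hcl : K.cls false true) {x : ℕ} (hx' : x < 32) (hne : eqw x Dat.onep = false)
    (h : K.Both (IsConj K.t) (K.mu x)) : isTT x = true := by
  obtain ⟨h1, h2, h3, h4⟩ := K.both_mu hx' hne h
  have hxw := (mulP_spec hx' (y := Dat.wp) (by decide)).1
  simp only [isTT, Bool.and_eq_true]
  exact ⟨⟨⟨h1, h2⟩, (K.lab_spec hcl hx' h1).2 h3⟩, (K.lab_spec hcl hxw h2).2 h4⟩

theorem both_of_TT (hcl : K.cls false true) {x : ℕ} (hx' : x < 32) (h : isTT x = true) :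
    K.Both (IsConj K.t) (K.mu x) := by
  simp only [isTT, Bool.and_eq_true] at h
  have hxw := (mulP_spec hx' (y := Dat.wp) (by decide)).1
  exact K.both_of hx' h.1.1.1 ((K.lab_spec hcl hx' h.1.1.1).1 h.1.2) ((K.lab_spec hcl hxw h.1.1.2).1 h.2)

theorem isFF_of (hcl : K.cls false true) {x : ℕ} (hx' : x < 32) (hne : eqw x Dat.onep = false)
    (h : K.Both (fun g => ¬IsConj K.t g) (K.mu x)) : isFF x = true := by
  obtain ⟨h1, h2, h3, h4⟩ := K.both_mu hx' hne h
  have hxw := (mulP_spec hx' (y := Dat.wp) (by decide)).1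
  simp only [isFF, Bool.and_eq_true, Bool.not_eq_true']
  exact ⟨⟨⟨h1, h2⟩, Bool.eq_false_iff.2 fun e => h3 ((K.lab_spec hcl hx' h1).1 e)⟩,
    Bool.eq_false_iff.2 fun e => h4 ((K.lab_spec hcl hxw h2).1 e)⟩

theorem both_of_FF (hcl : K.cls false true) {x : ℕ} (hx' : x < 32) (h : isFF x = true) :
    K.Both (fun g => ¬IsConj K.t g) (K.mu x) := by
  simp only [isFF, Bool.and_eq_true, Bool.not_eq_true'] at h
  have hxw := (mulP_spec hx' (y := Dat.wp) (by decide)).1
  refine K.both_of hx' h.1.1.1 (fun e => ?_) (fun e => ?_)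
  · rw [(K.lab_spec hcl hx' h.1.1.1).2 e] at h
    exact Bool.noConfusion h.1.2
  · rw [(K.lab_spec hcl hxw h.1.1.2).2 e] at h
    exact Bool.noConfusion h.2

/-- The element cycling the three involutions. -/
def Move.gC (M : K.Move c n) (hw : gw (fld5 c) Dat.wp = Dat.wp) : K.CC :=
  ⟨K.gg n, K.mem_CC.2 ⟨M.gg_e, by
    have h := (M.acts_gg _ eltsE_facts.2.2.1).2
    rw [hw, K.p_special.2.2.2] at h
    conv_rhs => rw [← h]
    group⟩⟩

/-- Its image. -/
def Move.gam (M : K.Move c n) (hw : gw (fld5 c) Dat.wp = Dat.wp) : K.Y := K.pr (M.gC hw)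

theorem Move.gam_mu (M : K.Move c n) (hw : gw (fld5 c) Dat.wp = Dat.wp) {x : ℕ} (hx' : x ∈ Dat.eltsE) :
    M.gam hw * K.mu x * (M.gam hw)⁻¹ = K.mu (gw (fld5 c) x) := by
  obtain ⟨hE, hh⟩ := M.acts_gg x hx'
  rw [Move.gam, mu, mu, ← map_inv, ← map_mul, ← map_mul]
  refine congrArg K.pr (Subtype.ext ?_)
  rw [Subgroup.coe_mul, Subgroup.coe_mul, Subgroup.coe_inv, K.pC_val (eltsE_spec hx').1,
    K.pC_val (eltsE_spec hE).1]
  exact hh

/-- Separated translates are not conjugate by the element. -/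
theorem Move.not_translate (M : K.Move c n) {g : K.CC} {f : ℕ → ℕ} (hg : K.Acts g f) {x x' : ℕ} (hx' : x < 32)
    (hx'' : x' < 32)
    (hsep : ∃ y ∈ Dat.eltsE, f (fld5 c (cjP x y)) ≠ fld5 c (cjP x' (f y))) :
    K.pr g * (M.nu * K.mu x) * (K.pr g)⁻¹ ≠ M.nu * K.mu x' := by
  intro h
  rw [Move.nu, mu, mu, ← map_mul, ← map_mul, ← map_inv, ← map_mul, ← map_mul] at h
  obtain ⟨z, hz, e⟩ := K.pr_eq.1 h.symm
  have e' : n * K.p x' * (z : G) = (g : G) * (n * K.p x) * (g : G)⁻¹ := by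
    have := congrArg (fun u : K.CC => (u : G)) e
    simp only [Subgroup.coe_mul, Subgroup.coe_inv, K.pC_val hx', K.pC_val hx''] at this
    exact this
  obtain ⟨y, hy, hne⟩ := hsep
  have hy32 := (eltsE_spec hy).1
  obtain ⟨hfy, hgy⟩ := hg y hy
  have hfy32 := (eltsE_spec hfy).1
  obtain ⟨hcE, hFE⟩ := eltsE_facts.2.2.2.2 y hy
  obtain ⟨hcj, -⟩ := cjP_spec hx' hy32
  have hFcE := (eltsE_facts.2.2.2.2 _ (hcE x hx')).2 c M.mem
  obtain ⟨hfFE, hgF⟩ := hg _ hFcE
  refine hne (K.p_inj (eltsE_spec hfFE).1 (fld5_lt _ _) ?_)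
  have hzp : (z : G) * K.p (f y) = K.p (f y) * z := by
    have := congrArg (fun u : K.CC => (u : G)) (K.NN_comm hz (K.pC (f y)))
    simp only [Subgroup.coe_mul, K.pC_val hfy32] at this
    exact this.symm
  calc K.p (f (fld5 c (cjP x y))) = g * (n * (K.p x * K.p y * (K.p x)⁻¹) * n⁻¹) * (g : G)⁻¹ := by
        rw [K.p_cj hx' hy32, M.map _ hcj, hgF]
    _ = (g : G) * (n * K.p x) * (g : G)⁻¹ * ((g : G) * K.p y * (g : G)⁻¹) *
          ((g : G) * (n * K.p x) * (g : G)⁻¹)⁻¹ := by group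
    _ = n * K.p x' * z * K.p (f y) * (n * K.p x' * z)⁻¹ := by rw [e', hgy]
    _ = n * K.p x' * (z * K.p (f y)) * (z : G)⁻¹ * (K.p x')⁻¹ * n⁻¹ := by group
    _ = n * (K.p x' * K.p (f y) * (K.p x')⁻¹) * n⁻¹ := by rw [hzp]; group
    _ = _ := by rw [K.p_cj hx'' hfy32, M.map _ (cjP_spec hx'' hfy32).1]

/-- No group has the twisted assignment with a listed map of the right parity. -/
theorem Move.not_good (M : K.Move c n) (hcl : K.cls false true) (hgood : okGood (fld5 c) = true) : False := by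
  classical
  set F := fld5 c with hF
  have H : GoodFacts F := goodFacts hgood
  set γ := M.gam H.gw_w with hγ
  obtain ⟨hT0, hT1, hff, hvv⟩ : eqw Dat.tp Dat.onep = false ∧ eqw Dat.vp Dat.onep = false ∧
      isFF (mulP Dat.tp Dat.vp) = true ∧ eqw (mulP Dat.tp (mulP Dat.tp Dat.vp)) Dat.vp = true := by
    have h := small_facts
    simp only [Bool.and_eq_true, Bool.not_eq_true'] at h
    exact ⟨h.1.1.1, h.1.1.2, h.1.2, h.2⟩
  have htpE := eltsE_facts.1
  have h1E : gw F Dat.tp ∈ Dat.eltsE := (M.acts_gg _ htpE).1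
  have h2E : gw F (gw F Dat.tp) ∈ Dat.eltsE := (M.acts_gg _ h1E).1
  have h3E : gw F (gw F (gw F Dat.tp)) ∈ Dat.eltsE := (M.acts_gg _ h2E).1
  have htp := (eltsE_spec htpE).1
  have hu1 := (eltsE_spec h1E).1
  have hu2 := (eltsE_spec h2E).1
  set u1 := K.mu Dat.tp with hu1d
  set u2 := K.mu (gw F Dat.tp) with hu2d
  set u3 := K.mu (gw F (gw F Dat.tp)) with hu3d
  have g1 : γ * u1 * γ⁻¹ = u2 := M.gam_mu H.gw_w htpE
  have g2 : γ * u2 * γ⁻¹ = u3 := M.gam_mu H.gw_w h1E
  have g3 : γ * u3 * γ⁻¹ = u1 := (M.gam_mu H.gw_w h2E).trans ((K.mu_iff (eltsE_spec h3E).1 htp).2 H.cycle)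
  have h12 : u1 * u2 = u3 :=
    (K.mu_mul htp hu1).trans ((K.mu_iff (mulP_spec htp hu1).1 hu2).2 H.prod)
  -- centralisers
  have hle : ∀ u ∈ uList F, u < 32 → K.S ≤ Subgroup.centralizer ({K.mu u} : Set K.Y) := by
    intro u hu hu32 y hy
    obtain ⟨-, hFu, hcu⟩ := H.u_spec u hu
    obtain ⟨x, hx', hc⟩ := M.S_cases hy
    refine Subgroup.mem_centralizer_singleton_iff.2 ?_
    have key : K.mu x * K.mu u * (K.mu x)⁻¹ = K.mu u :=
      (K.mu_cj hx' hu32).trans ((K.mu_iff (cjP_spec hx' hu32).1 hu32).2 (hcu x hx'))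
    have hyy : y * K.mu u * y⁻¹ = K.mu u := by
      rcases hc with rfl | rfl
      · exact key
      · calc M.nu * K.mu x * K.mu u * (M.nu * K.mu x)⁻¹ = M.nu * (K.mu x * K.mu u * (K.mu x)⁻¹) * M.nu⁻¹ := by
              group
          _ = K.mu (F u) := by rw [key, M.nu_mu hu32]
          _ = K.mu u := (K.mu_iff (fld5_lt c u) hu32).2 hFu
    conv_rhs => rw [← hyy]
    group
  have hu1mem : Dat.tp ∈ uList F := by simp [uList]
  have hu2mem : gw F Dat.tp ∈ uList F := by simp [uList]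
  have hu3mem : gw F (gw F Dat.tp) ∈ uList F := by simp [uList]
  have c1 : Subgroup.centralizer ({u1} : Set K.Y) = K.S := rfl
  have hcard : ∀ v, Nat.card (Subgroup.centralizer ({γ * v * γ⁻¹} : Set K.Y)) =
      Nat.card (Subgroup.centralizer ({v} : Set K.Y)) := fun v => by
    rw [← map_conj_centralizer]
    exact Nat.card_congr (Subgroup.equivMapOfInjective _ _ (MulAut.conj γ).injective).toEquiv.symm
  have c2 : Subgroup.centralizer ({u2} : Set K.Y) = K.S :=
    (Subgroup.eq_of_le_of_card_ge (hle _ hu2mem hu1) (by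
      show Nat.card (Subgroup.centralizer ({u2} : Set K.Y)) ≤ _
      rw [← g1, hcard]; rfl)).symm
  have c3 : Subgroup.centralizer ({u3} : Set K.Y) = K.S :=
    (Subgroup.eq_of_le_of_card_ge (hle _ hu3mem hu2) (by
      show Nat.card (Subgroup.centralizer ({u3} : Set K.Y)) ≤ _
      rw [← g2, hcard, c2])).symm
  have hstab : ∀ y, γ * y * γ⁻¹ ∈ K.S ↔ y ∈ K.S := by
    intro y
    conv_rhs => rw [← c3]
    show γ * y * γ⁻¹ ∈ Subgroup.centralizer ({u1} : Set K.Y) ↔ _
    rw [← g3, ← map_conj_centralizer, Subgroup.mem_map_equiv, MulAut.conj_symm_apply]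
    rw [show γ⁻¹ * (γ * y * γ⁻¹) * γ = y by group]
  -- fusion into the table
  have fusion : ∀ y ∈ K.S, ∃ x < 32, y = K.mu x ∨ γ * y * γ⁻¹ = K.mu x ∨
      γ * (γ * y * γ⁻¹) * γ⁻¹ = K.mu x := by
    intro y hy
    obtain ⟨x, hx', hc⟩ := M.S_cases hy
    rcases hc with rfl | rfl
    · exact ⟨x, hx', Or.inl rfl⟩
    have h := H.fuse x hx'
    simp only [okFuse, Bool.or_eq_true] at h
    rcases h with h | h
    · obtain ⟨x', hx'', hc'⟩ := M.S_cases ((hstab _).2 hy)
      rcases hc' with e | e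
      · exact ⟨x', hx'', Or.inr (Or.inl e)⟩
      · refine absurd e (M.not_translate (g := M.gC H.gw_w) M.acts_gg hx' hx'' ?_)
        obtain ⟨y', hy', hne⟩ := List.any_eq_true.1 (allLo_spec h hx'')
        rw [Bool.not_eq_true', ← Bool.not_eq_true, Nat.beq_eq] at hne
        exact ⟨y', hy', hne⟩
    · obtain ⟨x', hx'', hc'⟩ := M.S_cases ((hstab _).2 ((hstab _).2 hy))
      rcases hc' with e | e
      · exact ⟨x', hx'', Or.inr (Or.inr e)⟩
      · exfalso
        have e' : K.pr (M.gC H.gw_w * M.gC H.gw_w) * (M.nu * K.mu x) * (K.pr (M.gC H.gw_w * M.gC H.gw_w))⁻¹ =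
            M.nu * K.mu x' := by
          rw [← e, map_mul, hγ, Move.gam]; group
        refine M.not_translate (g := M.gC H.gw_w * M.gC H.gw_w) (M.acts_gg.comp M.acts_gg) hx' hx'' ?_ e'
        obtain ⟨y', hy', hne⟩ := List.any_eq_true.1 (allLo_spec h hx'')
        rw [Bool.not_eq_true', ← Bool.not_eq_true, Nat.beq_eq] at hne
        exact ⟨y', hy', hne⟩
  have TTu : K.Both (IsConj K.t) u1 := both_of_TT hcl htp (H.u_spec _ hu1mem).1
  have hu1ne : u1 ≠ 1 := fun e => by
    rw [hu1d, ← K.mu_one, K.mu_iff htp (by decide), hT0] at e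
    exact Bool.noConfusion e
  have hback : ∀ z, (γ * z * γ⁻¹ = u1 ∨ γ * z * γ⁻¹ = u2 ∨ γ * z * γ⁻¹ = u3) → z = u1 ∨ z = u2 ∨ z = u3 := by
    intro z hz
    rcases hz with e | e | e
    · rw [← g3] at e; exact Or.inr (Or.inr (mul_left_cancel (mul_right_cancel e)))
    · rw [← g1] at e; exact Or.inl (mul_left_cancel (mul_right_cancel e))
    · rw [← g2] at e; exact Or.inr (Or.inl (mul_left_cancel (mul_right_cancel e)))
  have hne1 : ∀ {y : K.Y}, y ≠ 1 → ∀ g : K.Y, g * y * g⁻¹ ≠ 1 := fun hy g e => hy (conj_eq_one_iff.1 e)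
  have uset : ∀ y ∈ K.S, K.Both (IsConj K.t) y → y ≠ 1 → y = u1 ∨ y = u2 ∨ y = u3 := by
    intro y hy hb hy1
    obtain ⟨x, hx', hc⟩ := fusion y hy
    have main : ∀ z : K.Y, z = K.mu x → K.Both (IsConj K.t) z → z ≠ 1 → z = u1 ∨ z = u2 ∨ z = u3 := by
      rintro z rfl hz hz1
      have hxne : eqw x Dat.onep = false := by
        rw [← Bool.not_eq_true]
        exact fun e => hz1 (by rw [← K.mu_one]; exact (K.mu_iff hx' (by decide)).2 e)
      rcases H.cover x hx' (isTT_of hcl hx' hxne hz) with e | e | e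
      · exact Or.inl ((K.mu_iff hx' htp).2 e)
      · exact Or.inr (Or.inl ((K.mu_iff hx' hu1).2 e))
      · exact Or.inr (Or.inr ((K.mu_iff hx' hu2).2 e))
    rcases hc with e | e | e
    · exact main y e hb hy1
    · exact hback _ (main _ e (K.both_conj K.isConjT_conj _ hb) (hne1 hy1 _))
    · exact hback _ (hback _ (main _ e (K.both_conj K.isConjT_conj _ (K.both_conj K.isConjT_conj _ hb))
        (hne1 (hne1 hy1 _) _)))
  -- centralisers of the products
  have centJ : ∀ j < 32, okJ F j = true → Subgroup.centralizer ({K.mu j} : Set K.Y) ≤ K.S := by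
    intro j hj hok
    simp only [okJ, Bool.and_eq_true, Bool.not_eq_true'] at hok
    obtain ⟨⟨⟨⟨⟨⟨-, hk1⟩, hk2⟩, hk3⟩, hab⟩, hm⟩, hpair⟩ := hok
    set L := Subgroup.centralizer ({K.mu j} : Set K.Y) with hL
    have huL : ∀ u, u < 32 → eqw (cjP u j) j = true → K.mu u ∈ L := fun u hu he => by
      refine Subgroup.mem_centralizer_singleton_iff.2 ?_
      have e := (K.mu_cj hu hj).trans ((K.mu_iff (cjP_spec hu hj).1 hj).2 he)
      conv_rhs => rw [← e]
      group
    let v1 : L := ⟨u1, huL _ htp hk1⟩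
    let v2 : L := ⟨u2, huL _ hu1 hk2⟩
    let A : Subgroup L := K.S.subgroupOf L
    have hA : IsPGroup 2 A := M.S_two.comap_of_injective L.subtype L.subtype_injective
    have hcent : ∀ v : L, Subgroup.centralizer ({(v : K.Y)} : Set K.Y) = K.S →
        Subgroup.centralizer ({v} : Set L) = A := by
      intro v hv
      ext x
      rw [Subgroup.mem_centralizer_singleton_iff, Subgroup.mem_subgroupOf, ← hv,
        Subgroup.mem_centralizer_singleton_iff]
      exact ⟨fun h => congrArg Subtype.val h, fun h => Subtype.ext h⟩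
    have hmem : ∀ {x}, x < 32 → K.mu x ∈ L → eqw (cjP x j) j = true := fun {x} hx' h => by
      rw [← K.mu_iff (cjP_spec hx' hj).1 hj, ← K.mu_cj hx' hj, Subgroup.mem_centralizer_singleton_iff.1 h,
        mul_inv_cancel_right]
    have hmn : ∀ {x}, x < 32 → M.nu * K.mu x ∈ L → eqw (F (cjP x j)) j = true := fun {x} hx' h => by
      rw [← K.mu_iff (fld5_lt _ _) hj, ← M.nu_mu (cjP_spec hx' hj).1, ← K.mu_cj hx' hj,
        show M.nu * (K.mu x * K.mu j * (K.mu x)⁻¹) * M.nu⁻¹ = M.nu * K.mu x * K.mu j * (M.nu * K.mu x)⁻¹ by group,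
        Subgroup.mem_centralizer_singleton_iff.1 h, mul_inv_cancel_right]
    have mm : ∀ {p q}, p < 32 → q < 32 → K.mu p ∈ L → K.mu q ∈ L → K.mu p * K.mu q = K.mu q * K.mu p := by
      intro p q hp hq hpL hqL
      have h := allLo_spec hab hp
      rw [hmem hp hpL, Bool.not_true, Bool.false_or] at h
      have h' := allLo_spec h hq
      rw [hmem hq hqL, Bool.not_true, Bool.false_or] at h'
      rw [K.mu_mul hp hq, K.mu_mul hq hp]
      exact (K.mu_iff (mulP_spec hp hq).1 (mulP_spec hq hp).1).2 h'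
    have nm : ∀ {p q}, p < 32 → q < 32 → M.nu * K.mu p ∈ L → K.mu q ∈ L →
        M.nu * K.mu p * K.mu q = K.mu q * (M.nu * K.mu p) := by
      intro p q hp hq hpL hqL
      have h := allLo_spec hm hp
      rw [hmn hp hpL, Bool.not_true, Bool.false_or] at h
      have h' := allLo_spec h hq
      rw [hmem hq hqL, Bool.not_true, Bool.false_or] at h'
      have hcj := (cjP_spec hp hq).1
      have e := (K.mu_iff (fld5_lt _ _) hq).2 h'
      rw [← M.nu_mu hcj, ← K.mu_cj hp hq] at e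
      conv_rhs => rw [← e]
      group
    have habA : ∀ x ∈ A, ∀ y ∈ A, x * y = y * x := by
      rintro ⟨x, hxL⟩ hxA ⟨y, hyL⟩ hyA
      refine Subtype.ext ?_
      show x * y = y * x
      obtain ⟨p, hp, hpc⟩ := M.S_cases (Subgroup.mem_subgroupOf.1 hxA)
      obtain ⟨q, hq, hqc⟩ := M.S_cases (Subgroup.mem_subgroupOf.1 hyA)
      simp only at hpc hqc
      rcases hpc with rfl | rfl <;> rcases hqc with rfl | rfl
      · exact mm hp hq hxL hyL
      · exact (nm hq hp hyL hxL).symm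
      · exact nm hp hq hxL hyL
      · obtain ⟨-, hi, -⟩ := pos_spec hp
        obtain ⟨hr, -⟩ := mulP_spec hi hq
        have e : M.nu * K.mu q = M.nu * K.mu p * K.mu (mulP (invOf p) q) := by
          rw [← K.mu_mul hi hq, ← K.mu_inv hp]; group
        have hrL : K.mu (mulP (invOf p) q) ∈ L := by
          have := L.mul_mem (L.inv_mem hxL) hyL
          rwa [show (M.nu * K.mu p)⁻¹ * (M.nu * K.mu q) = K.mu (mulP (invOf p) q) by rw [e]; group] at this
        rw [e, mul_assoc (M.nu * K.mu p) (K.mu _) (M.nu * K.mu p), ← nm hp hr hxL hrL]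
    have hfix : ∀ m ∈ Subgroup.normalizer (A : Set L),
        m * v1 = v1 * m ∨ m * v2 = v2 * m ∨ m * (v1 * v2) = v1 * v2 * m := by
      intro m hm
      have hmj := Subgroup.mem_centralizer_singleton_iff.1 m.2
      -- commuting lifts
      let R : K.Y → Prop := fun u => ∀ g h : K.CC, K.pr g = u → K.pr h = K.mu j → g * h = h * g
      have Rmu : ∀ x < 32, R (K.mu x) ↔ mulP x j = mulP j x := by
        intro x hx'
        constructor
        · intro h
          refine K.p_inj (mulP_spec hx' hj).1 (mulP_spec hj hx').1 ?_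
          have := congrArg (fun u : K.CC => (u : G)) (h (K.pC x) (K.pC j) rfl rfl)
          simp only [Subgroup.coe_mul, K.pC_val hx', K.pC_val hj, K.p_mul hx' hj, K.p_mul hj hx'] at this
          exact this
        · intro h g k hg hk
          obtain ⟨z, hz, rfl⟩ := K.pr_eq.1 hg.symm
          obtain ⟨z', hz', rfl⟩ := K.pr_eq.1 hk.symm
          have e : K.pC x * K.pC j = K.pC j * K.pC x := Subtype.ext (by
            simp only [Subgroup.coe_mul, K.pC_val hx', K.pC_val hj, K.p_mul hx' hj, K.p_mul hj hx', h])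
          exact ((Commute.mul_left (Commute.mul_right e (K.NN_comm hz' _))
            (Commute.mul_right (K.NN_comm hz _).symm (K.NN_comm hz' _)))).eq
      have Rm : ∀ u, R u → R ((m : K.Y) * u * (m : K.Y)⁻¹) := by
        intro u hR g h hg hh
        obtain ⟨k, hk⟩ := K.pr_surj (m : K.Y)
        have e := hR (k⁻¹ * g * k) (k⁻¹ * h * k) (by rw [map_mul, map_mul, map_inv, hg, hk]; group) (by
          rw [map_mul, map_mul, map_inv, hh, hk, mul_assoc, ← hmj, inv_mul_cancel_left])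
        calc g * h = k * (k⁻¹ * g * k * (k⁻¹ * h * k)) * k⁻¹ := by group
          _ = k * (k⁻¹ * h * k * (k⁻¹ * g * k)) * k⁻¹ := by rw [e]
          _ = h * g := by group
      have hmap : ∀ u ∈ uList F, u < 32 → eqw (cjP u j) j = true →
          (m : K.Y) * K.mu u * (m : K.Y)⁻¹ = u1 ∨ (m : K.Y) * K.mu u * (m : K.Y)⁻¹ = u2 ∨
            (m : K.Y) * K.mu u * (m : K.Y)⁻¹ = u3 := by
        intro u hu hu32 he
        have hmemA : (⟨K.mu u, huL u hu32 he⟩ : L) ∈ A := by
          refine Subgroup.mem_subgroupOf.2 ?_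
          show K.mu u ∈ Subgroup.centralizer ({u1} : Set K.Y)
          refine Subgroup.mem_centralizer_singleton_iff.2 ?_
          exact (Subgroup.mem_centralizer_singleton_iff.1 (hle u hu hu32
            (c1 ▸ Subgroup.mem_centralizer_singleton_iff.2 rfl : u1 ∈ K.S))).symm
        have hS' := Subgroup.mem_subgroupOf.1 ((Subgroup.mem_normalizer_iff.1 hm _).1 hmemA)
        refine uset _ hS' (K.both_conj K.isConjT_conj _ (both_of_TT hcl hu32 (H.u_spec u hu).1)) (hne1 ?_ _)
        intro e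
        rw [← K.mu_one, K.mu_iff hu32 (by decide)] at e
        have ht := (H.u_spec u hu).1
        simp only [isTT, Bool.and_eq_true] at ht
        rcases eqw_iff.1 e with h | h
        · exact ((isI_spec hu32).1 ht.1.1.1).2 h
        · have h2 := ((isI_spec (mulP_spec hu32 (y := Dat.wp) (by decide)).1).1 ht.1.1.2).2
          exact h2 (by rw [h]; decide +kernel)
      have hfixu : ∀ u ∈ uList F, u < 32 → eqw (cjP u j) j = true → R (K.mu u) →
          (∀ w ∈ [u1, u2, u3], R w → w = K.mu u) → (m : K.Y) * K.mu u = K.mu u * m := by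
        intro u hu hu32 he hR huniq
        have e : (m : K.Y) * K.mu u * (m : K.Y)⁻¹ = K.mu u := by
          refine huniq _ ?_ (Rm _ hR)
          rcases hmap u hu hu32 he with e | e | e <;> rw [e] <;> simp
        conv_rhs => rw [← e]
        group
      simp only [Bool.or_eq_true, Bool.and_eq_true, Nat.beq_eq, Bool.not_eq_true'] at hpair
      have nR : ∀ x < 32, Nat.beq (mulP x j) (mulP j x) = false → ¬R (K.mu x) := fun x hx' hb hR => by
        rw [(Rmu x hx').1 hR] at hb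
        simp at hb
      rcases hpair with (⟨⟨a1, b2⟩, b3⟩ | ⟨⟨b1, a2⟩, b3⟩) | ⟨⟨b1, b2⟩, a3⟩
      · left
        refine Subtype.ext ?_
        refine hfixu _ hu1mem htp hk1 ((Rmu _ htp).2 a1) ?_
        intro w hw hR
        simp only [List.mem_cons, List.not_mem_nil, or_false] at hw
        rcases hw with rfl | rfl | rfl
        · rfl
        · exact absurd hR (nR _ hu1 b2)
        · exact absurd hR (nR _ hu2 b3)
      · right; left
        refine Subtype.ext ?_
        refine hfixu _ hu2mem hu1 hk2 ((Rmu _ hu1).2 a2) ?_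
        intro w hw hR
        simp only [List.mem_cons, List.not_mem_nil, or_false] at hw
        rcases hw with rfl | rfl | rfl
        · exact absurd hR (nR _ htp b1)
        · rfl
        · exact absurd hR (nR _ hu2 b3)
      · right; right
        refine Subtype.ext ?_
        show (m : K.Y) * (u1 * u2) = u1 * u2 * m
        rw [h12]
        refine hfixu _ hu3mem hu2 hk3 ((Rmu _ hu2).2 a3) ?_
        intro w hw hR
        simp only [List.mem_cons, List.not_mem_nil, or_false] at hw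
        rcases hw with rfl | rfl | rfl
        · exact absurd hR (nR _ htp b1)
        · exact absurd hR (nR _ hu1 b2)
        · rfl
    have sq1 : ∀ u ∈ uList F, u < 32 → K.mu u * K.mu u = 1 := fun u hu hu32 => by
      have ht := (H.u_spec u hu).1
      simp only [isTT, Bool.and_eq_true] at ht
      have h := ht.1.1.1
      simp only [isI, Bool.and_eq_true, Nat.beq_eq] at h
      rw [K.mu_mul hu32 hu32, h.1, K.mu_one]
    have htop := top_of_three A hA habA v1 v2 (Subtype.ext (sq1 _ hu1mem htp)) (Subtype.ext (sq1 _ hu2mem hu1))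
      (hcent v1 c1) (hcent v2 c2) (hcent (v1 * v2) (by
        show Subgroup.centralizer ({u1 * u2} : Set K.Y) = K.S
        rw [h12, c3])) hfix
    intro y hy
    exact Subgroup.mem_subgroupOf.1 (htop ▸ Subgroup.mem_top (⟨y, hy⟩ : L) : (⟨y, hy⟩ : L) ∈ A)
  -- the involution of neither class
  have hvp : Dat.vp < 32 := by decide
  set v := K.mu Dat.vp with hvd
  have FFv : K.Both (fun g => ¬IsConj K.t g) v := both_of_FF hcl hvp H.ff
  have hne : ¬IsConj u1 v := fun h => by
    obtain ⟨g, hg⟩ := isConj_iff.1 h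
    obtain ⟨⟨l, hl, hl2⟩, hall⟩ := FFv
    exact hall l hl hl2 ((K.both_conj K.isConjT_conj g TTu).2 l (hl.trans hg.symm) hl2)
  have hjv : mulP Dat.tp (mulP Dat.tp Dat.vp) < 32 := (mulP_spec htp (mulP_spec htp hvp).1).1
  have hcv : Subgroup.centralizer ({v} : Set K.Y) ≤ K.S := by
    have := centJ _ hjv (H.jj _ (mulP_spec htp hvp).1 hff).1
    rwa [(K.mu_iff hjv hvp).2 hvv] at this
  have hvne : v ≠ 1 := fun e => by
    rw [hvd, ← K.mu_one, K.mu_iff hvp (by decide), hT1] at e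
    exact Bool.noConfusion e
  have hJ : ∀ x ∈ K.S, IsConj v x → Subgroup.centralizer ({u1 * x} : Set K.Y) ≤ K.S := by
    intro x hx' hconj
    obtain ⟨g, hg⟩ := isConj_iff.1 hconj
    have hxF : K.Both (fun g => ¬IsConj K.t g) x := hg ▸ K.both_conj K.notConjT_conj g FFv
    have hx1 : x ≠ 1 := hg ▸ hne1 hvne g
    obtain ⟨p, hp, hc⟩ := fusion x hx'
    have main : ∀ (z : K.Y) (u : ℕ), z = K.mu p → K.Both (fun g => ¬IsConj K.t g) z → z ≠ 1 → u < 32 →
        (isFF p = true → okJ F (mulP u p) = true) →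
        Subgroup.centralizer ({K.mu u * z} : Set K.Y) ≤ K.S := by
      rintro z u rfl hz hz1 hu hj
      have hpne : eqw p Dat.onep = false := by
        rw [← Bool.not_eq_true]
        exact fun e => hz1 (by rw [← K.mu_one]; exact (K.mu_iff hp (by decide)).2 e)
      rw [K.mu_mul hu hp]
      exact centJ _ (mulP_spec hu hp).1 (hj (isFF_of hcl hp hpne hz))
    intro y hy
    have hy' := Subgroup.mem_centralizer_singleton_iff.1 hy
    have cj : ∀ a : K.Y, a * y * a⁻¹ ∈ Subgroup.centralizer ({a * u1 * a⁻¹ * (a * x * a⁻¹)} : Set K.Y) := fun a => by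
      rw [show a * u1 * a⁻¹ * (a * x * a⁻¹) = a * (u1 * x) * a⁻¹ by group, ← map_conj_centralizer,
        Subgroup.mem_map_equiv, MulAut.conj_symm_apply, show a⁻¹ * (a * y * a⁻¹) * a = y by group]
      exact hy
    rcases hc with e | e | e
    · exact main x Dat.tp e hxF hx1 htp (fun h => (H.jj p hp h).1) hy
    · refine (hstab y).1 (main _ (gw F Dat.tp) e (K.both_conj K.notConjT_conj _ hxF) (hne1 hx1 _) hu1
        (fun h => (H.jj p hp h).2.1) ?_)
      have := cj γ
      rwa [g1] at this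
    · refine (hstab y).1 ((hstab _).1 (main _ (gw F (gw F Dat.tp)) e
        (K.both_conj K.notConjT_conj _ (K.both_conj K.notConjT_conj _ hxF)) (hne1 (hne1 hx1 _) _) hu2
        (fun h => (H.jj p hp h).2.2) ?_))
      have := cj (γ * γ)
      rw [show γ * γ * u1 * (γ * γ)⁻¹ = γ * (γ * u1 * γ⁻¹) * γ⁻¹ by group, g1, g2,
        show γ * γ * x * (γ * γ)⁻¹ = γ * (γ * x * γ⁻¹) * γ⁻¹ by group,
        show γ * γ * y * (γ * γ)⁻¹ = γ * (γ * y * γ⁻¹) * γ⁻¹ by group] at this
      exact this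
  -- an element of order five
  obtain ⟨f, hf5, hf1⟩ : ∃ f : K.Y, f ^ 5 = 1 ∧ f ≠ 1 := by
    have key : ∀ {r : G} {k : ℕ → ℕ}, K.Acts r k → r * K.e = K.e * r → k (F Dat.zp) = Dat.wp →
        ∃ f : K.Y, f ^ 5 = 1 ∧ f ≠ 1 := by
      intro r k hr hre hk
      obtain ⟨-, hzz⟩ := hr.comp M.acts Dat.zp eltsE_facts.2.2.2.1
      simp only [← hF, hk, K.p_special.2.2.2] at hzz
      set s := r * n
      set f0 := K.ψ (el Dat.fiveW) with hf0
      have hse : s * K.e = K.e * s := (Commute.mul_left hre M.n_e).eq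
      have hfz : f0 * K.p Dat.zp = K.p Dat.zp * f0 := by
        rw [hf0, p, ← map_mul, ← map_mul, elts_spec.2.1.2]
      have hfe : f0 * K.e = K.e * f0 := by rw [hf0, e, ← map_mul, ← map_mul, elts_spec.1.2.2.2]
      have hmem : s * f0 * s⁻¹ ∈ K.CC := by
        refine K.mem_CC.2 ⟨((Commute.mul_left (Commute.mul_left hse hfe) (Commute.inv_left hse))).eq, ?_⟩
        rw [← hzz]
        calc s * f0 * s⁻¹ * (s * K.p Dat.zp * s⁻¹) = s * (f0 * K.p Dat.zp) * s⁻¹ := by group
          _ = s * (K.p Dat.zp * f0) * s⁻¹ := by rw [hfz]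
          _ = _ := by group
      have h5 : (s * f0 * s⁻¹) ^ 5 = 1 := by
        rw [conj_pow, hf0, ← map_pow, elts_spec.2.1.1, map_one, mul_one, mul_inv_cancel]
      refine ⟨K.pr ⟨_, hmem⟩, by rw [← map_pow, show (⟨_, hmem⟩ : K.CC) ^ 5 = 1 from Subtype.ext h5, map_one],
        fun e => ?_⟩
      rw [pr, QuotientGroup.mk'_apply, QuotientGroup.eq_one_iff] at e
      obtain ⟨i, j, hij⟩ := e
      simp only at hij
      have h6 : (s * f0 * s⁻¹) ^ 6 = 1 := by
        rw [hij, ((Commute.pow_pow K.e_w) i j).mul_pow, ← pow_mul, ← pow_mul,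
          show i * 6 = 3 * (2 * i) by ring, show j * 6 = 2 * (3 * j) by ring, pow_mul K.e 3, K.e_cube,
          pow_mul K.w 2, pow_two K.w, K.w_sq, one_pow, one_pow, one_mul]
      rw [pow_succ, h5, one_mul, conj_eq_one_iff] at h6
      exact five_ne.2.1 (K.inj (by rw [← hf0, h6, map_one]))
    rcases H.five with h | h
    · exact key K.acts_rA K.rA_e h
    · exact key K.acts_rB K.rB_e h
  have hu1sq : u1 * u1 = 1 := by
    rw [hu1d, K.mu_mul htp htp, show mulP Dat.tp Dat.tp = Dat.onep by decide +kernel, K.mu_one]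
  have hvsq : v * v = 1 := by
    rw [hvd, K.mu_mul hvp hvp, show mulP Dat.vp Dat.vp = Dat.onep by decide +kernel, K.mu_one]
  refine false_of_config K.S M.S_two u1 u2 v f hu1sq c1 c2 (by rw [h12, c3]) ?_ hvsq hne hcv hJ hf5 hf1
  intro g hg
  rw [h12]
  exact uset _ hg (K.both_conj K.isConjT_conj g TTu) (hne1 hu1ne g)

end Ctx

end

end Cfsg.Agent.HNRecog.Assign
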