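import Mathlib.GroupTheory.Transfer
import Mathlib.GroupTheory.FixedPointFree
import Mathlib.GroupTheory.Nilpotent

/-!
Three commuting involutions, each with the same abelian 2-group as centraliser and none moved by its normaliser,
leave nothing outside that group; and a configuration of two classes of involutions that no finite group with an
element of order five has.
-/

set_option autoImplicit false
set_option linter.style.haveILetI false

namespace Cfsg.Agent.HNRecog.Assign

open Subgroup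

variable {L : Type*} [Group L]

/-- Two involutions that are not conjugate have an involution in the dihedral group they generate commuting with
both; times the first it is conjugate to one of them. -/
theorem exists_between [Finite L] {u v : L} (hu : u * u = 1) (hv : v * v = 1) (hn : ¬IsConj u v) :
    ∃ j : L, j ≠ 1 ∧ j * j = 1 ∧ u * j = j * u ∧ v * j = j * v ∧ (IsConj u (u * j) ∨ IsConj v (u * j)) := by
  set d := u * v with hd
  have huv : u * d = v := by rw [hd, ← mul_assoc, hu, one_mul]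
  have hui : u⁻¹ = u := inv_eq_of_mul_eq_one_right hu
  have hvi : v⁻¹ = v := inv_eq_of_mul_eq_one_right hv
  have hinv : SemiconjBy u d d⁻¹ := by
    show u * d = d⁻¹ * u
    rw [huv, hd, mul_inv_rev, hvi, hui, mul_assoc, hu, mul_one]
  have hpow : ∀ k : ℕ, u * d ^ k = (d ^ k)⁻¹ * u := fun k => by
    have := hinv.pow_right k
    rw [inv_pow] at this
    exact this
  have hev : ∀ l : ℕ, IsConj u (u * d ^ (2 * l)) := fun l => isConj_iff.2 ⟨(d ^ l)⁻¹, by
    rw [inv_inv, mul_assoc, two_mul, pow_add, ← mul_assoc, ← mul_assoc, hpow]⟩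
  have hod : ∀ l : ℕ, IsConj v (u * d ^ (2 * l + 1)) := fun l => isConj_iff.2 ⟨(d ^ l)⁻¹, by
    rw [inv_inv, show 2 * l + 1 = l + (l + 1) by omega, pow_add, ← mul_assoc u, hpow, pow_succ', ← mul_assoc,
      mul_assoc ((d ^ l)⁻¹) u d, huv]⟩
  obtain ⟨l, hl | hl⟩ := Nat.even_or_odd' (orderOf d)
  · have hpos := orderOf_pos d
    have hj2 : d ^ l * d ^ l = 1 := by rw [← pow_add, ← two_mul, ← hl, pow_orderOf_eq_one]
    have hji : (d ^ l)⁻¹ = d ^ l := inv_eq_of_mul_eq_one_right hj2
    have hcu : u * d ^ l = d ^ l * u := by rw [hpow, hji]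
    refine ⟨d ^ l, fun h => ?_, hj2, hcu, ?_, ?_⟩
    · have := Nat.le_of_dvd (by omega) (orderOf_dvd_of_pow_eq_one h)
      omega
    · have hdl : d * d ^ l = d ^ l * d := by rw [← pow_succ', ← pow_succ]
      rw [← huv, mul_assoc, hdl, ← mul_assoc, hcu, mul_assoc]
    · obtain ⟨m, rfl | rfl⟩ := Nat.even_or_odd' l
      · exact Or.inl (hev m)
      · exact Or.inr (hod m)
  · refine absurd ?_ hn
    have := hod l
    rw [← hl, pow_orderOf_eq_one, mul_one] at this
    exact this.symm

/-- The kernel of the transfer to the common centraliser is trivial. -/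
theorem top_of_three [Finite L] (A : Subgroup L) (hA : IsPGroup 2 A) (hab : ∀ x ∈ A, ∀ y ∈ A, x * y = y * x)
    (u₁ u₂ : L) (h1 : u₁ * u₁ = 1) (h2 : u₂ * u₂ = 1)
    (c1 : centralizer ({u₁} : Set L) = A) (c2 : centralizer ({u₂} : Set L) = A)
    (c3 : centralizer ({u₁ * u₂} : Set L) = A)
    (hfix : ∀ n ∈ normalizer (A : Set L), n * u₁ = u₁ * n ∨ n * u₂ = u₂ * n ∨ n * (u₁ * u₂) = u₁ * u₂ * n) :
    A = ⊤ := by
  haveI : Fact (Nat.Prime 2) := ⟨Nat.prime_two⟩
  have hNA : ∀ n ∈ normalizer (A : Set L), n ∈ A := by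
    intro n hn
    rcases hfix n hn with h | h | h
    · rw [← c1]; exact mem_centralizer_singleton_iff.2 h
    · rw [← c2]; exact mem_centralizer_singleton_iff.2 h
    · rw [← c3]; exact mem_centralizer_singleton_iff.2 h
  -- the subgroup is a Sylow 2-subgroup
  obtain ⟨P, hP⟩ := hA.exists_le_sylow
  have hPA : (P : Subgroup L) = A := by
    refine le_antisymm ?_ hP
    haveI := P.2.isNilpotent
    have htop : A.subgroupOf (P : Subgroup L) = ⊤ := by
      refine normalizerCondition_iff_only_full_group_self_normalizing.1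
        (Group.normalizerCondition_of_isNilpotent) _ (le_antisymm ?_ le_normalizer)
      intro n hn
      rw [mem_subgroupOf]
      refine hNA _ (mem_normalizer_iff.2 fun x => ⟨fun hx => ?_, fun hx => ?_⟩)
      · exact mem_subgroupOf.1 ((mem_normalizer_iff.1 hn ⟨x, hP hx⟩).1 (mem_subgroupOf.2 hx))
      · have hxP : x ∈ (P : Subgroup L) := by
          have := mul_mem (mul_mem (inv_mem n.2) (hP hx)) n.2
          convert this using 1
          group
        exact mem_subgroupOf.1 ((mem_normalizer_iff.1 hn ⟨x, hxP⟩).2 (mem_subgroupOf.2 hx))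
    exact fun x hx => mem_subgroupOf.1 (htop ▸ mem_top (⟨x, hx⟩ : (P : Subgroup L)))
  have hle : normalizer ((P : Subgroup L) : Set L) ≤ centralizer ((P : Subgroup L) : Set L) := by
    rw [hPA]
    exact fun n hn => mem_centralizer_iff.2 fun x hx => hab x hx n (hNA n hn)
  set K := (MonoidHom.transferSylow P hle).ker with hK
  have hcomp : IsComplement' K (P : Subgroup L) := MonoidHom.ker_transferSylow_isComplement' P hle
  have hmeet : ∀ k ∈ K, k ∈ A → k = 1 := fun k hk hkA =>
    mem_bot.1 (hcomp.disjoint.le_bot ⟨hk, hPA ▸ hkA⟩)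
  haveI : K.Normal := inferInstance
  have hinv : ∀ u : L, u * u = 1 → centralizer ({u} : Set L) = A → ∀ k ∈ K, u * k * u = k⁻¹ := by
    intro u hu hcu k hk
    have hui : u⁻¹ = u := inv_eq_of_mul_eq_one_right hu
    let φ : K →* K := (MulAut.conjNormal u).toMonoidHom
    have hφ : ∀ k : K, (φ k : L) = u * k * u := fun k => by
      show ((MulAut.conjNormal u k : K) : L) = _
      rw [MulAut.conjNormal_apply, hui]
    have hfree : MonoidHom.FixedPointFree φ := fun k hk' => by
      refine Subtype.ext (hmeet k k.2 (hcu ▸ mem_centralizer_singleton_iff.2 ?_))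
      have e := congrArg Subtype.val hk'
      rw [hφ] at e
      calc (k : L) * u = u * k * u * u := by rw [e]
        _ = u * k := by rw [mul_assoc, hu, mul_one]
    have hi : Function.Involutive φ := fun k => Subtype.ext (by
      rw [hφ, hφ]
      calc u * (u * k * u) * u = u * u * k * (u * u) := by group
        _ = k := by rw [hu, one_mul, mul_one])
    have := congrFun (MonoidHom.FixedPointFree.coe_eq_inv_of_involutive hfree hi) ⟨k, hk⟩
    rw [← hφ ⟨k, hk⟩, this]
    rfl
  have hK1 : K = ⊥ := by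
    rw [eq_bot_iff]
    intro k hk
    refine mem_bot.2 (hmeet k hk ?_)
    rw [← c3]
    refine mem_centralizer_singleton_iff.2 ?_
    have e2 := hinv u₂ h2 c2 k hk
    have e1 := hinv u₁ h1 c1 _ (inv_mem hk)
    rw [inv_inv] at e1
    calc k * (u₁ * u₂) = u₁ * k⁻¹ * u₁ * (u₁ * u₂) := by rw [e1]
      _ = u₁ * k⁻¹ * (u₁ * u₁) * u₂ := by group
      _ = u₁ * (u₂ * k * u₂) * u₂ := by rw [h1, mul_one, e2]
      _ = u₁ * u₂ * k * (u₂ * u₂) := by group
      _ = u₁ * u₂ * k := by rw [h2, mul_one]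
  rw [← hPA]
  rw [hK1] at hcomp
  exact isComplement'_bot_left.1 hcomp

/-- No finite group has such involutions and an element of order five. -/
theorem false_of_config [Finite L] (S : Subgroup L) (hS : IsPGroup 2 S) (u₁ u₂ v f : L)
    (h1 : u₁ * u₁ = 1) (c1 : centralizer ({u₁} : Set L) = S) (c2 : centralizer ({u₂} : Set L) = S)
    (c3 : centralizer ({u₁ * u₂} : Set L) = S)
    (hZ : ∀ g : L, g * u₁ * g⁻¹ ∈ S → g * u₁ * g⁻¹ = u₁ ∨ g * u₁ * g⁻¹ = u₂ ∨ g * u₁ * g⁻¹ = u₁ * u₂)
    (hv : v * v = 1) (hne : ¬IsConj u₁ v) (hcv : centralizer ({v} : Set L) ≤ S)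
    (hJ : ∀ x ∈ S, IsConj v x → centralizer ({u₁ * x} : Set L) ≤ S) (hf : f ^ 5 = 1) (hf1 : f ≠ 1) : False := by
  classical
  have hu2S : u₂ ∈ S := c2 ▸ mem_centralizer_singleton_iff.2 rfl
  have hconjv : ∀ g : L, g * v * g⁻¹ ∈ S := by
    intro g
    have hw : g * v * g⁻¹ * (g * v * g⁻¹) = 1 := by
      calc g * v * g⁻¹ * (g * v * g⁻¹) = g * (v * v) * g⁻¹ := by group
        _ = 1 := by rw [hv]; group
    have hvw : IsConj v (g * v * g⁻¹) := isConj_iff.2 ⟨g, rfl⟩
    obtain ⟨j, hj1, hj2, huj, hwj, hc⟩ := exists_between h1 hw fun h => hne (h.trans hvw.symm)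
    have hjS : j ∈ S := c1 ▸ mem_centralizer_singleton_iff.2 huj.symm
    have hu1S : u₁ ∈ S := c1 ▸ mem_centralizer_singleton_iff.2 rfl
    rcases hc with hc | hc
    · obtain ⟨k, hk⟩ := isConj_iff.1 hc
      rcases hZ k (hk ▸ mul_mem hu1S hjS) with e | e | e
      · rw [hk] at e
        exact absurd (mul_left_cancel (e.trans (mul_one u₁).symm)) hj1
      · rw [hk] at e
        have ej : j = u₁ * u₂ := by
          rw [← e, ← mul_assoc, h1, one_mul]
        rw [← c3, ← ej]
        exact mem_centralizer_singleton_iff.2 hwj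
      · rw [hk] at e
        rw [← c2, ← mul_left_cancel e]
        exact mem_centralizer_singleton_iff.2 hwj
    · have := hJ _ (mul_mem hu1S hjS) (hvw.trans hc)
      rw [← mul_assoc, h1, one_mul] at this
      exact this (mem_centralizer_singleton_iff.2 hwj)
  have hconju : ∀ g : L, g * u₁ * g⁻¹ = u₁ ∨ g * u₁ * g⁻¹ = u₂ ∨ g * u₁ * g⁻¹ = u₁ * u₂ := by
    intro g
    refine hZ g (hcv (mem_centralizer_singleton_iff.2 ?_))
    have e := mem_centralizer_singleton_iff.1 ((c1 ▸ hconjv g⁻¹ : g⁻¹ * v * g⁻¹⁻¹ ∈ centralizer ({u₁} : Set L)))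
    rw [inv_inv] at e
    calc g * u₁ * g⁻¹ * v = g * (u₁ * (g⁻¹ * v * g)) * g⁻¹ := by group
      _ = g * (g⁻¹ * v * g * u₁) * g⁻¹ := by rw [e]
      _ = v * (g * u₁ * g⁻¹) := by group
  let T : Finset L := {u₁, u₂, u₁ * u₂}
  have hmaps : ∀ k ∈ Finset.range 5, f ^ k * u₁ * (f ^ k)⁻¹ ∈ T := fun k _ => by
    rcases hconju (f ^ k) with e | e | e <;> rw [e] <;> simp [T]
  have hcard : T.card < (Finset.range 5).card := by
    rw [Finset.card_range]
    exact lt_of_le_of_lt Finset.card_le_three (by norm_num)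
  obtain ⟨a, ha, b, hb, hab, he⟩ := Finset.exists_ne_map_eq_of_card_lt_of_maps_to hcard hmaps
  rw [Finset.mem_range] at ha hb
  wlog hlt : a < b generalizing a b
  · exact this b hb a ha (Ne.symm hab) he.symm (by omega)
  have hm : f ^ (b - a) ∈ S := by
    rw [← c1]
    refine mem_centralizer_singleton_iff.2 ?_
    have hb' : f ^ b = f ^ a * f ^ (b - a) := by rw [← pow_add, Nat.add_sub_cancel' hlt.le]
    rw [hb'] at he
    calc f ^ (b - a) * u₁ = (f ^ a)⁻¹ * (f ^ a * f ^ (b - a) * u₁ * (f ^ a * f ^ (b - a))⁻¹) * f ^ a * f ^ (b - a) := by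
          group
      _ = (f ^ a)⁻¹ * (f ^ a * u₁ * (f ^ a)⁻¹) * f ^ a * f ^ (b - a) := by rw [← he]
      _ = u₁ * f ^ (b - a) := by group
  obtain ⟨k, hk⟩ := (IsPGroup.iff_orderOf.1 hS) ⟨_, hm⟩
  rw [orderOf_mk] at hk
  have h5 : orderOf f = 5 := by
    haveI : Fact (Nat.Prime 5) := ⟨Nat.prime_five⟩
    exact orderOf_eq_prime hf hf1
  have : orderOf (f ^ (b - a)) = 5 := by
    rw [Nat.Coprime.orderOf_pow (by
      rw [h5]; exact ((Nat.Prime.coprime_iff_not_dvd Nat.prime_five).2 fun h => by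
        have := Nat.le_of_dvd (by omega) h; omega)), h5]
  rw [this] at hk
  rcases k with _ | k
  · norm_num at hk
  · rw [pow_succ] at hk
    omega

end Cfsg.Agent.HNRecog.Assign
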