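import Cfsg.Agent.Lib.HNRecog.Assign.Setup

/-!
Conjugation on the abelian subgroup of order 16 by the composites of the interchanging element and the two moving
elements: the listed maps of the wrong parity are impossible.
-/

set_option autoImplicit false
set_option maxRecDepth 100000
set_option linter.style.haveILetI false

namespace Cfsg.Agent.HNRecog.Assign

open Cfsg.Agent.HN Cfsg.Agent.HNMult

noncomputable section

universe u

theorem eltsE_closed : (Dat.eltsE.all (fun x =>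
      allLo (fun p => Dat.eltsE.any fun y => Nat.beq y (cjP p x)) 32 &&
      Dat.candsP.all (fun c => Dat.eltsE.any fun y => Nat.beq y (fld5 c x))) &&
    Dat.eltsE.any (fun y => Nat.beq y Dat.tp) && Dat.eltsE.any (fun y => Nat.beq y Dat.apos) &&
    Dat.eltsE.any (fun y => Nat.beq y Dat.wp) && Dat.eltsE.any (fun y => Nat.beq y Dat.zp)) = true := by
  decide +kernel

theorem eltsE_facts : Dat.tp ∈ Dat.eltsE ∧ Dat.apos ∈ Dat.eltsE ∧ Dat.wp ∈ Dat.eltsE ∧ Dat.zp ∈ Dat.eltsE ∧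
    ∀ x ∈ Dat.eltsE, (∀ p < 32, cjP p x ∈ Dat.eltsE) ∧ ∀ c ∈ Dat.candsP, fld5 c x ∈ Dat.eltsE := by
  have h := eltsE_closed
  simp only [Bool.and_eq_true, List.any_eq_true, Nat.beq_eq, exists_eq_right, List.all_eq_true] at h
  obtain ⟨⟨⟨⟨h0, h1⟩, h2⟩, h3⟩, h4⟩ := h
  refine ⟨h1, h2, h3, h4, fun x hx => ⟨fun p hp => ?_, (h0 x hx).2⟩⟩
  have := allLo_spec (h0 x hx).1 hp
  simp only [List.any_eq_true, Nat.beq_eq, exists_eq_right] at this
  exact this

theorem fld5_lt (c x : ℕ) : fld5 c x < 32 := Nat.lt_succ_of_le Nat.and_le_right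

namespace Ctx

variable {G : Type u} [Group G] [Finite G] (K : Ctx G)

/-- The image of a position. -/
def p (x : ℕ) : G := K.ψ (eP x)

theorem p_mul {x y : ℕ} (hx' : x < 32) (hy : y < 32) : K.p x * K.p y = K.p (mulP x y) := by
  rw [p, p, ← map_mul, (mulP_spec hx' hy).2]; rfl

theorem p_cj {q x : ℕ} (hq : q < 32) (hx' : x < 32) : K.p q * K.p x * (K.p q)⁻¹ = K.p (cjP q x) := by
  rw [p, p, ← map_inv, ← map_mul, ← map_mul, (cjP_spec hq hx').2]; rfl

theorem p_inj {x y : ℕ} (hx' : x < 32) (hy : y < 32) (h : K.p x = K.p y) : x = y := eP_inj hx' hy (K.inj h)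

theorem p_special : K.p Dat.onep = 1 ∧ K.p Dat.tp = K.t ∧ K.p Dat.apos = K.a ∧ K.p Dat.wp = K.w := by
  obtain ⟨h0, h1, h2, h3⟩ := special_pos
  simp [p, t, a, w, h0, h1, h2, h3]

theorem p_e {x : ℕ} (hx' : x < 32) : K.p x * K.e = K.e * K.p x := by
  rw [p, e, ← map_mul, ← map_mul, eE_comm hx']

/-- An element carrying the positions of the abelian subgroup along a map. -/
def Acts (g : G) (f : ℕ → ℕ) : Prop := ∀ x ∈ Dat.eltsE, f x ∈ Dat.eltsE ∧ g * K.p x * g⁻¹ = K.p (f x)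

theorem Acts.comp {K : Ctx G} {g h : G} {f k : ℕ → ℕ} (hh : K.Acts h k) (hg : K.Acts g f) :
    K.Acts (h * g) (fun x => k (f x)) := fun x hx' => by
  obtain ⟨h1, h2⟩ := hg x hx'
  obtain ⟨h3, h4⟩ := hh _ h1
  refine ⟨h3, ?_⟩
  rw [← h4, ← h2]
  group

theorem acts_rA : K.Acts (K.ψ (el Dat.rAW)) rA := fun x hx' =>
  ⟨(eltsE_spec hx').2.1, by rw [p, ← map_inv, ← map_mul, ← map_mul, (elts_spec.2.2.2.2.2 x hx').1]; rfl⟩

theorem acts_rB : K.Acts (K.ψ (el Dat.rBW)) rB := fun x hx' =>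
  ⟨(eltsE_spec hx').2.2, by rw [p, ← map_inv, ← map_mul, ← map_mul, (elts_spec.2.2.2.2.2 x hx').2]; rfl⟩

theorem rA_e : K.ψ (el Dat.rAW) * K.e = K.e * K.ψ (el Dat.rAW) := by
  rw [e, ← map_mul, ← map_mul, elts_spec.1.2.1]

theorem rB_e : K.ψ (el Dat.rBW) * K.e = K.e * K.ψ (el Dat.rBW) := by
  rw [e, ← map_mul, ← map_mul, elts_spec.1.2.2.1]

/-- The hypotheses on the interchanging element. -/
structure Move (c : ℕ) (n : G) : Prop where
  mem : c ∈ Dat.candsP
  n_t : n * K.t * n⁻¹ = K.a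
  n_a : n * K.a * n⁻¹ = K.t
  n_e : n * K.e = K.e * n
  map : ∀ x < 32, n * K.p x * n⁻¹ = K.p (fld5 c x)

variable {K} {c : ℕ} {n : G}

theorem Move.acts (M : K.Move c n) : K.Acts n (fld5 c) := fun x hx' =>
  ⟨(eltsE_facts.2.2.2.2 x hx').2 c M.mem, M.map x (eltsE_spec hx').1⟩

theorem Move.n_w (M : K.Move c n) : n * K.w * n⁻¹ = K.w := by
  have hcomm : K.t * K.a = K.a * K.t := by
    rw [t, a, ← map_mul, ← map_mul, Subgroup.mem_center_iff.1 hx_sq_central]
  calc n * K.w * n⁻¹ = n * K.a * n⁻¹ * (n * K.t * n⁻¹) := by rw [K.w_eq]; group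
    _ = K.w := by rw [M.n_a, M.n_t, K.w_eq, hcomm]

/-- The composite of the good case. -/
def gg (K : Ctx G) (n : G) : G := K.ψ (el Dat.rBW) * (n * (K.ψ (el Dat.rAW) * (n * K.ψ (el Dat.rAW))))

theorem Move.acts_gg (M : K.Move c n) : K.Acts (K.gg n) (gw (fld5 c)) :=
  (K.acts_rB).comp (M.acts.comp ((K.acts_rA).comp (M.acts.comp K.acts_rA)))

theorem Move.gg_e (M : K.Move c n) : K.gg n * K.e = K.e * K.gg n :=
  (Commute.mul_left K.rB_e (Commute.mul_left M.n_e (Commute.mul_left K.rA_e (Commute.mul_left M.n_e K.rA_e)))).eq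

/-- A listed map of the wrong parity is impossible. -/
theorem Move.not_bad (M : K.Move c n) (hbad : okBad (fld5 c) = true) : False := by
  simp only [okBad, Bool.and_eq_true, Nat.beq_eq] at hbad
  obtain ⟨⟨ht, ha⟩, hall⟩ := hbad
  set g := K.ψ (el Dat.rAW) * (n * (K.ψ (el Dat.rBW) * (n * (K.ψ (el Dat.rBW) * (n *
    (K.ψ (el Dat.rAW) * (n * (K.ψ (el Dat.rAW) * n)))))))) with hg
  have hacts : K.Acts g (bw (fld5 c)) :=
    (K.acts_rA).comp (M.acts.comp ((K.acts_rB).comp (M.acts.comp ((K.acts_rB).comp (M.acts.comp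
      ((K.acts_rA).comp (M.acts.comp ((K.acts_rA).comp M.acts))))))))
  have he : g * K.e = K.e * g :=
    (Commute.mul_left K.rA_e (Commute.mul_left M.n_e (Commute.mul_left K.rB_e (Commute.mul_left M.n_e
      (Commute.mul_left K.rB_e (Commute.mul_left M.n_e (Commute.mul_left K.rA_e (Commute.mul_left M.n_e
        (Commute.mul_left K.rA_e M.n_e))))))))).eq
  obtain ⟨htE, haE, -⟩ := eltsE_facts
  have e1 := (hacts _ htE).2
  rw [ht, K.p_special.2.1] at e1
  have e2 := (hacts _ haE).2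
  rw [ha, K.p_special.2.2.1] at e2
  have c1 : g * K.t = K.t * g := by
    conv_rhs => rw [← e1]
    group
  have c2 : g * K.a = K.a * g := by
    conv_rhs => rw [← e2]
    group
  obtain ⟨i, -, y, hy, hgy⟩ := K.cent_tae c1 c2 he
  have h := allLo_spec hall hy
  obtain ⟨x, hxE, hne⟩ := List.any_eq_true.1 h
  have hx32 := (eltsE_spec hxE).1
  rw [Bool.not_eq_true', ← Bool.not_eq_true, Nat.beq_eq] at hne
  obtain ⟨hbE, hbx⟩ := hacts x hxE
  refine hne (K.p_inj (cjP_spec hy hx32).1 (eltsE_spec hbE).1 ?_)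
  rw [← hbx, ← K.p_cj hy hx32, hgy, map_mul, map_pow]
  have hc : K.e ^ i * K.p (cjP y x) * (K.e ^ i)⁻¹ = K.p (cjP y x) := by
    rw [((Commute.pow_left (K.p_e (cjP_spec hy hx32).1).symm i)).eq, mul_inv_cancel_right]
  calc K.p y * K.p x * (K.p y)⁻¹ = K.p (cjP y x) := K.p_cj hy hx32
    _ = K.e ^ i * K.p (cjP y x) * (K.e ^ i)⁻¹ := hc.symm
    _ = _ := by rw [← K.p_cj hy hx32]; simp only [p, e]; group

end Ctx

end

end Cfsg.Agent.HNRecog.Assign
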