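import Cfsg.Agent.Lib.HNRecog.Assign.Moves
import Cfsg.Agent.Lib.HNRecog.Assign.Isolated

/-!
The centraliser of `e` and `w` modulo `⟨e, w⟩`: the images of the table, of the interchanging element, and the
centraliser of the image of `t`.
-/

set_option autoImplicit false
set_option maxRecDepth 100000
set_option linter.style.haveILetI false

namespace Cfsg.Agent.HNRecog.Assign

open Cfsg.Agent.HN Cfsg.Agent.HNMult

noncomputable section

universe u

theorem eqw_iff {x y : ℕ} : eqw x y = true ↔ x = y ∨ x = mulP y Dat.wp := by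
  simp [eqw, Bool.or_eq_true, Nat.beq_eq]

theorem map_conj_centralizer {L : Type*} [Group L] (g u : L) :
    (Subgroup.centralizer ({u} : Set L)).map (MulAut.conj g).toMonoidHom =
      Subgroup.centralizer ({g * u * g⁻¹} : Set L) := by
  ext x
  simp only [Subgroup.mem_map_equiv, Subgroup.mem_centralizer_singleton_iff, MulAut.conj_symm_apply]
  constructor <;> intro h
  · calc x * (g * u * g⁻¹) = g * (g⁻¹ * x * g * u) * g⁻¹ := by group
      _ = g * (u * (g⁻¹ * x * g)) * g⁻¹ := by rw [h]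
      _ = g * u * g⁻¹ * x := by group
  · calc g⁻¹ * x * g * u = g⁻¹ * (x * (g * u * g⁻¹)) * g := by group
      _ = g⁻¹ * (g * u * g⁻¹ * x) * g := by rw [h]
      _ = u * (g⁻¹ * x * g) := by group

namespace Ctx

variable {G : Type u} [Group G] [Finite G] (K : Ctx G)

/-- The centraliser of `e` and `w`. -/
def CC : Subgroup G := Subgroup.centralizer {K.e, K.w}

theorem mem_CC {g : G} : g ∈ K.CC ↔ g * K.e = K.e * g ∧ g * K.w = K.w * g := by
  simp only [CC, Subgroup.mem_centralizer_iff, Set.mem_insert_iff, Set.mem_singleton_iff, forall_eq_or_imp,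
    forall_eq]
  exact ⟨fun h => ⟨h.1.symm, h.2.symm⟩, fun h => ⟨h.1.symm, h.2.symm⟩⟩

theorem w_sq : K.w * K.w = 1 := by
  rw [← K.p_special.2.2.2, K.p_mul (by decide) (by decide), show mulP Dat.wp Dat.wp = Dat.onep by decide +kernel,
    K.p_special.1]

theorem e_cube : K.e ^ 3 = 1 := by
  rw [e, ← map_pow]
  have h := pow_orderOf_eq_one eE
  rw [order_eE] at h
  rw [h, map_one]

theorem e_w : K.e * K.w = K.w * K.e := by
  rw [← K.p_special.2.2.2]; exact (K.p_e (by decide)).symm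

theorem p_w {x : ℕ} (hx' : x < 32) : K.p x * K.w = K.w * K.p x := by
  rw [K.w_eq, p, a, t, ← map_mul, ← map_mul, ← map_mul, ← mul_assoc, ← elA_comm hx', mul_assoc elA (eP x),
    Subgroup.mem_center_iff.1 hx_sq_central (eP x), ← mul_assoc]

/-- The subgroup generated by `e` and `w`. -/
def NN : Subgroup K.CC where
  carrier := {g | ∃ i j : ℕ, (g : G) = K.e ^ i * K.w ^ j}
  one_mem' := ⟨0, 0, by simp⟩
  mul_mem' := by
    rintro g h ⟨i, j, hg⟩ ⟨k, l, hh⟩
    refine ⟨i + k, j + l, ?_⟩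
    rw [Subgroup.coe_mul, hg, hh]
    have hc : Commute (K.w ^ j) (K.e ^ k) := ((Commute.pow_pow K.e_w.symm) j k)
    calc K.e ^ i * K.w ^ j * (K.e ^ k * K.w ^ l) = K.e ^ i * (K.w ^ j * K.e ^ k) * K.w ^ l := by group
      _ = K.e ^ i * (K.e ^ k * K.w ^ j) * K.w ^ l := by rw [hc.eq]
      _ = K.e ^ (i + k) * K.w ^ (j + l) := by rw [pow_add, pow_add]; group
  inv_mem' := by
    rintro g ⟨i, j, hg⟩
    refine ⟨2 * i, j, ?_⟩
    rw [Subgroup.coe_inv, hg]
    refine inv_eq_of_mul_eq_one_right ?_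
    have hc : Commute (K.w ^ j) (K.e ^ (2 * i)) := ((Commute.pow_pow K.e_w.symm) j (2 * i))
    calc K.e ^ i * K.w ^ j * (K.e ^ (2 * i) * K.w ^ j) = K.e ^ i * (K.w ^ j * K.e ^ (2 * i)) * K.w ^ j := by group
      _ = K.e ^ i * K.e ^ (2 * i) * (K.w ^ j * K.w ^ j) := by rw [hc.eq]; group
      _ = 1 := by
        rw [← pow_add, show i + 2 * i = 3 * i by ring, pow_mul, K.e_cube, one_pow, ← pow_add, ← two_mul, pow_mul,
          pow_two, K.w_sq, one_pow, mul_one]

theorem NN_comm {z : K.CC} (hz : z ∈ K.NN) (g : K.CC) : g * z = z * g := by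
  obtain ⟨i, j, h⟩ := hz
  refine Subtype.ext ?_
  rw [Subgroup.coe_mul, Subgroup.coe_mul, h]
  obtain ⟨h1, h2⟩ := K.mem_CC.1 g.2
  exact ((Commute.pow_right h1 i).mul_right (Commute.pow_right h2 j)).eq

instance normal_NN : K.NN.Normal :=
  ⟨fun z hz g => by rwa [K.NN_comm hz g, mul_inv_cancel_right]⟩

/-- The quotient. -/
abbrev Y : Type u := K.CC ⧸ K.NN

/-- The projection. -/
def pr : K.CC →* K.Y := QuotientGroup.mk' K.NN

theorem pr_eq {g h : K.CC} : K.pr g = K.pr h ↔ ∃ z ∈ K.NN, g * z = h := QuotientGroup.mk'_eq_mk' _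

theorem pr_surj : Function.Surjective K.pr := QuotientGroup.mk'_surjective _

theorem p_mem {x : ℕ} (hx' : x < 32) : K.p x ∈ K.CC := K.mem_CC.2 ⟨K.p_e hx', K.p_w hx'⟩

/-- A position in the centraliser. -/
def pC (x : ℕ) : K.CC := if h : x < 32 then ⟨K.p x, K.p_mem h⟩ else 1

theorem pC_val {x : ℕ} (hx' : x < 32) : (K.pC x : G) = K.p x := by simp [pC, hx']

/-- The image of a position. -/
def mu (x : ℕ) : K.Y := K.pr (K.pC x)

theorem mu_mul {x y : ℕ} (hx' : x < 32) (hy : y < 32) : K.mu x * K.mu y = K.mu (mulP x y) := by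
  rw [mu, mu, ← map_mul]
  refine congrArg K.pr (Subtype.ext ?_)
  rw [Subgroup.coe_mul, K.pC_val hx', K.pC_val hy, K.pC_val (mulP_spec hx' hy).1, K.p_mul hx' hy]

theorem mu_one : K.mu Dat.onep = 1 := by
  rw [mu, show K.pC Dat.onep = 1 from Subtype.ext (by rw [K.pC_val (by decide), K.p_special.1]; rfl), map_one]

theorem mu_inv {x : ℕ} (hx' : x < 32) : (K.mu x)⁻¹ = K.mu (invOf x) := by
  obtain ⟨-, hi, he, -⟩ := pos_spec hx'
  refine inv_eq_of_mul_eq_one_right ?_
  rw [K.mu_mul hx' hi, he, K.mu_one]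

theorem mu_cj {q x : ℕ} (hq : q < 32) (hx' : x < 32) : K.mu q * K.mu x * (K.mu q)⁻¹ = K.mu (cjP q x) := by
  obtain ⟨-, hi, -⟩ := pos_spec hq
  rw [K.mu_inv hq, K.mu_mul hq hx', K.mu_mul (mulP_spec hq hx').1 hi]
  rfl

theorem NN_sq {z : K.CC} (hz : z ∈ K.NN) (h : z * z = 1) : (z : G) = 1 ∨ (z : G) = K.w := by
  obtain ⟨i, j, hzz⟩ := hz
  have h' : (z : G) * z = 1 := by rw [← Subgroup.coe_mul, h]; rfl
  rw [hzz] at h'
  have hc : Commute (K.e ^ i) (K.w ^ j) := (Commute.pow_pow K.e_w) i j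
  have he : K.e ^ (2 * i) = 1 := by
    rw [← sq, hc.mul_pow, ← pow_mul, ← pow_mul, mul_comm j 2, pow_mul (K.w), pow_two K.w, K.w_sq, one_pow,
      mul_one, mul_comm i 2] at h'
    exact h'
  have hei : K.e ^ i = 1 := by
    calc K.e ^ i = K.e ^ (3 * i) * (K.e ^ (2 * i))⁻¹ := by
          rw [eq_mul_inv_iff_mul_eq, ← pow_add, show i + 2 * i = 3 * i by ring]
      _ = 1 := by rw [he, pow_mul, K.e_cube, one_pow, inv_one, mul_one]
  rw [hei, one_mul] at hzz
  obtain ⟨m, rfl | rfl⟩ := Nat.even_or_odd' j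
  · exact Or.inl (by rw [hzz, pow_mul, pow_two, K.w_sq, one_pow])
  · exact Or.inr (by rw [hzz, pow_add, pow_mul, pow_two, K.w_sq, one_pow, one_mul, pow_one])

theorem p_in_NN {x : ℕ} (hx' : x < 32) {i j : ℕ} (h : K.p x = K.e ^ i * K.w ^ j) :
    x = Dat.onep ∨ x = Dat.wp := by
  have hp : K.p x ^ 2048 = 1 := by rw [p, ← map_pow, eP_pow hx', map_one]
  rw [h, (Commute.pow_pow K.e_w i j).mul_pow, ← pow_mul, ← pow_mul, mul_comm j 2048,
    show 2048 * j = 2 * (1024 * j) by ring, pow_mul K.w 2, pow_two, K.w_sq, one_pow, mul_one] at hp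
  have hei : K.e ^ i = 1 := by
    calc K.e ^ i = K.e ^ (3 * (683 * i)) * (K.e ^ (i * 2048))⁻¹ := by
          rw [eq_mul_inv_iff_mul_eq, ← pow_add]; ring_nf
      _ = 1 := by rw [hp, pow_mul, K.e_cube, one_pow, inv_one, mul_one]
  rw [hei, one_mul] at h
  obtain ⟨m, rfl | rfl⟩ := Nat.even_or_odd' j
  · rw [pow_mul, pow_two, K.w_sq, one_pow, ← K.p_special.1] at h
    exact Or.inl (K.p_inj hx' (by decide) h)
  · rw [pow_add, pow_mul, pow_two, K.w_sq, one_pow, one_mul, pow_one, ← K.p_special.2.2.2] at h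
    exact Or.inr (K.p_inj hx' (by decide) h)

theorem mu_iff {x y : ℕ} (hx' : x < 32) (hy : y < 32) : K.mu x = K.mu y ↔ eqw x y = true := by
  have hw : Dat.wp < 32 := by decide
  rw [eqw_iff]
  constructor
  · intro h
    obtain ⟨z, hz, e1⟩ := K.pr_eq.1 h.symm
    obtain ⟨-, hi, -⟩ := pos_spec hy
    obtain ⟨i, j, hij⟩ := hz
    have e2 : K.p (mulP (invOf y) x) = K.e ^ i * K.w ^ j := by
      have := congrArg (fun g : K.CC => (g : G)) e1
      simp only [Subgroup.coe_mul, K.pC_val hx', K.pC_val hy] at this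
      rw [← K.p_mul hi hx', ← this, ← hij, ← mul_assoc,
        show K.p (invOf y) * K.p y = 1 by rw [p, p, ← map_mul, ← eP_inv hy, inv_mul_cancel, map_one], one_mul]
    have hback : K.p y * K.p (mulP (invOf y) x) = K.p x := by
      rw [← K.p_mul hi hx', ← mul_assoc, show K.p y * K.p (invOf y) = 1 by
        rw [p, p, ← map_mul, ← eP_inv hy, mul_inv_cancel, map_one], one_mul]
    rcases K.p_in_NN (mulP_spec hi hx').1 e2 with e | e <;> rw [e] at hback
    · rw [K.p_special.1, mul_one] at hback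
      exact Or.inl (K.p_inj hy hx' hback).symm
    · rw [K.p_mul hy hw] at hback
      exact Or.inr (K.p_inj (mulP_spec hy hw).1 hx' hback).symm
  · rintro (rfl | rfl)
    · rfl
    · refine (K.pr_eq.2 ⟨K.pC Dat.wp, ⟨0, 1, ?_⟩, Subtype.ext ?_⟩).symm
      · rw [K.pC_val hw, K.p_special.2.2.2, pow_zero, one_mul, pow_one]
      · rw [Subgroup.coe_mul, K.pC_val hw, K.pC_val hy, K.pC_val hx', K.p_mul hy hw]

/-- An element of the centraliser fixing `t` is a position modulo `⟨e, w⟩`. -/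
theorem fix_mu (g : K.CC) (h : (g : G) * K.t = K.t * g) : ∃ x < 32, K.pr g = K.mu x := by
  obtain ⟨he, hw⟩ := K.mem_CC.1 g.2
  have ha : (g : G) * K.a = K.a * g := by
    have e : K.a = K.w * K.t := by
      rw [K.w_eq, mul_assoc]
      conv_rhs => rw [show K.t * K.t = 1 by
        rw [← K.p_special.2.1, K.p_mul (by decide) (by decide), show mulP Dat.tp Dat.tp = Dat.onep by decide +kernel,
          K.p_special.1], mul_one]
    rw [e, ← mul_assoc, hw, mul_assoc, h, mul_assoc]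
  obtain ⟨i, -, x, hx', hg⟩ := K.cent_tae h ha he
  refine ⟨x, hx', (K.pr_eq.2 ?_).symm⟩
  refine ⟨(K.pC x)⁻¹ * g, ⟨i, 0, ?_⟩, by rw [mul_inv_cancel_left]⟩
  rw [Subgroup.coe_mul, Subgroup.coe_inv, K.pC_val hx', hg, map_mul, map_pow, pow_zero, mul_one]
  show (K.p x)⁻¹ * (K.e ^ i * K.p x) = K.e ^ i
  rw [((Commute.pow_left (K.p_e hx').symm i)).eq, inv_mul_cancel_left]

variable {K} {c : ℕ} {n : G}

/-- The interchanging element in the centraliser. -/
def Move.nC (M : K.Move c n) : K.CC := ⟨n, K.mem_CC.2 ⟨M.n_e, by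
  conv_rhs => rw [← M.n_w]
  group⟩⟩

/-- Its image. -/
def Move.nu (M : K.Move c n) : K.Y := K.pr M.nC

theorem Move.nu_mu (M : K.Move c n) {x : ℕ} (hx' : x < 32) :
    M.nu * K.mu x * M.nu⁻¹ = K.mu (fld5 c x) := by
  rw [Move.nu, mu, mu, ← map_inv, ← map_mul, ← map_mul]
  refine congrArg K.pr (Subtype.ext ?_)
  rw [Subgroup.coe_mul, Subgroup.coe_mul, Subgroup.coe_inv, K.pC_val hx', K.pC_val (fld5_lt c x)]
  exact M.map x hx'

/-- The centraliser of the image of `t`. -/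
def S (K : Ctx G) : Subgroup K.Y := Subgroup.centralizer {K.mu Dat.tp}

theorem Move.S_cases (M : K.Move c n) {y : K.Y} (hy : y ∈ K.S) :
    ∃ x < 32, y = K.mu x ∨ y = M.nu * K.mu x := by
  obtain ⟨g, rfl⟩ := K.pr_surj y
  have hc := Subgroup.mem_centralizer_singleton_iff.1 hy
  rw [mu, ← map_mul, ← map_mul] at hc
  obtain ⟨z, hz, e⟩ := K.pr_eq.1 hc.symm
  have htp : Dat.tp < 32 := by decide
  have e' : (g : G) * K.t = K.t * g * z := by
    have := congrArg (fun u : K.CC => (u : G)) e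
    simp only [Subgroup.coe_mul, K.pC_val htp, K.p_special.2.1] at this
    exact this.symm
  have hgz : (g : G) * z = z * g := by rw [← Subgroup.coe_mul, K.NN_comm hz g]; rfl
  have htz : K.t * z = z * K.t := by
    have := congrArg (fun u : K.CC => (u : G)) (K.NN_comm hz (K.pC Dat.tp))
    simp only [Subgroup.coe_mul, K.pC_val htp, K.p_special.2.1] at this
    exact this
  have htt : K.t * K.t = 1 := by
    rw [← K.p_special.2.1, K.p_mul htp htp, show mulP Dat.tp Dat.tp = Dat.onep by decide +kernel, K.p_special.1]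
  have hconj : (g : G) * K.t * (g : G)⁻¹ = K.t * z := by
    rw [e', mul_assoc K.t, hgz, ← mul_assoc, mul_inv_cancel_right]
  have hz2 : z * z = 1 := by
    refine Subtype.ext ?_
    have h2 : (g : G) * K.t * (g : G)⁻¹ * ((g : G) * K.t * (g : G)⁻¹) = 1 := by
      calc (g : G) * K.t * (g : G)⁻¹ * ((g : G) * K.t * (g : G)⁻¹) = g * (K.t * K.t) * (g : G)⁻¹ := by group
        _ = 1 := by rw [htt]; group
    rw [hconj] at h2
    show (z : G) * z = 1
    calc (z : G) * z = K.t * K.t * z * z := by rw [htt, one_mul]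
      _ = K.t * (K.t * z) * z := by group
      _ = K.t * (z * K.t) * z := by rw [htz]
      _ = K.t * z * (K.t * z) := by group
      _ = 1 := h2
  rcases K.NN_sq hz hz2 with h | h
  · rw [h, mul_one] at e'
    obtain ⟨x, hx', hh⟩ := K.fix_mu g e'
    exact ⟨x, hx', Or.inl hh⟩
  · rw [h] at hconj
    have hta : K.t * K.w = K.a := by
      rw [← K.p_special.2.1, ← K.p_special.2.2.2, K.p_mul htp (by decide),
        show mulP Dat.tp Dat.wp = Dat.apos by decide +kernel, K.p_special.2.2.1]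
    rw [hta] at hconj
    have hfix : ((M.nC⁻¹ * g : K.CC) : G) * K.t = K.t * (M.nC⁻¹ * g : K.CC) := by
      show n⁻¹ * (g : G) * K.t = K.t * (n⁻¹ * g)
      have e1 : n⁻¹ * K.a * n = K.t := by rw [← M.n_t]; group
      calc n⁻¹ * (g : G) * K.t = n⁻¹ * ((g : G) * K.t * (g : G)⁻¹) * g := by group
        _ = n⁻¹ * K.a * n * (n⁻¹ * g) := by rw [hconj]; group
        _ = _ := by rw [e1]
    obtain ⟨x, hx', hh⟩ := K.fix_mu _ hfix
    refine ⟨x, hx', Or.inr ?_⟩
    rw [← hh, Move.nu, ← map_mul, mul_inv_cancel_left]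

theorem Move.S_two (M : K.Move c n) : IsPGroup 2 K.S := by
  rintro ⟨y, hy⟩
  obtain ⟨x, hx', rfl | rfl⟩ := M.S_cases hy
  · refine ⟨11, Subtype.ext ?_⟩
    show K.mu x ^ 2 ^ 11 = 1
    rw [mu, ← map_pow, show K.pC x ^ 2 ^ 11 = 1 from Subtype.ext (by
      rw [SubmonoidClass.coe_pow, K.pC_val hx', p, ← map_pow, show 2 ^ 11 = 2048 by norm_num, eP_pow hx', map_one]
      rfl), map_one]
  · -- the square fixes `t`
    set g : K.CC := M.nC * K.pC x with hg
    have hxt : K.p x * K.t * (K.p x)⁻¹ = K.t := by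
      rw [p, t, ← map_inv, ← map_mul, ← map_mul, Subgroup.mem_center_iff.1 hx_sq_central (eP x),
        mul_inv_cancel_right]
    have hxa : K.p x * K.a * (K.p x)⁻¹ = K.a := by
      rw [p, a, ← map_inv, ← map_mul, ← map_mul, ← elA_comm hx', mul_inv_cancel_right]
    have h2 : ((g * g : K.CC) : G) * K.t = K.t * (g * g : K.CC) := by
      show (n * (K.pC x : G)) * (n * (K.pC x : G)) * K.t = K.t * ((n * (K.pC x : G)) * (n * (K.pC x : G)))
      rw [K.pC_val hx']
      have e : n * K.p x * (n * K.p x) * K.t * (n * K.p x * (n * K.p x))⁻¹ = K.t := by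
        calc n * K.p x * (n * K.p x) * K.t * (n * K.p x * (n * K.p x))⁻¹
            = n * (K.p x * (n * (K.p x * K.t * (K.p x)⁻¹) * n⁻¹) * (K.p x)⁻¹) * n⁻¹ := by group
          _ = K.t := by rw [hxt, M.n_t, hxa, M.n_a]
      calc n * K.p x * (n * K.p x) * K.t
          = n * K.p x * (n * K.p x) * K.t * (n * K.p x * (n * K.p x))⁻¹ * (n * K.p x * (n * K.p x)) := by group
        _ = _ := by rw [e]
    obtain ⟨r, hr, hh⟩ := K.fix_mu _ h2
    refine ⟨12, Subtype.ext ?_⟩
    show (M.nu * K.mu x) ^ 2 ^ 12 = 1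
    rw [show 2 ^ 12 = 2 * 2048 by norm_num, pow_mul, pow_two, show M.nu * K.mu x = K.pr g from (map_mul _ _ _).symm,
      ← map_mul, hh, mu, ← map_pow, show K.pC r ^ 2048 = 1 from Subtype.ext (by
      rw [SubmonoidClass.coe_pow, K.pC_val hr, p, ← map_pow, eP_pow hr, map_one]
      rfl), map_one]

end Ctx

end

end Cfsg.Agent.HNRecog.Assign
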