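import Cfsg.Agent.Lib.HNRecog.Assign.Centraliser
import Cfsg.Agent.Lib.HNRecog.Assign.CheckMaps
import Mathlib.GroupTheory.Sylow

/-!
An element interchanging `t` and `a` and fixing the element of order three acts on the subgroup of order 32 as
one of the listed maps, whatever the classes of the two outer involutions are.
-/

set_option autoImplicit false
set_option maxRecDepth 100000
set_option linter.style.haveILetI false

namespace Cfsg.Agent.HNRecog.Assign

open Cfsg.Agent.HN Cfsg.Agent.HNMult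

noncomputable section

universe u

/-- The centraliser of an involution as an image of the group of `x, y, z`, with an interchanging element. -/
structure Ctx (G : Type u) [Group G] [Finite G] where
  /-- the map onto the centraliser -/
  ψ : H0 →* G
  inj : Function.Injective ψ
  cent : ∀ g : G, g * ψ (hx ^ 2) = ψ (hx ^ 2) * g → ∃ h, ψ h = g
  notAT : ¬IsConj (ψ (hx ^ 2)) (ψ elAT)
  /-- an interchanging element -/
  q : G
  q_t : q * ψ (hx ^ 2) * q⁻¹ = ψ elA
  q_a : q * ψ elA * q⁻¹ = ψ (hx ^ 2)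

namespace Ctx

variable {G : Type u} [Group G] [Finite G] (K : Ctx G)

/-- The involution. -/
def t : G := K.ψ (hx ^ 2)

/-- The image of `a`. -/
def a : G := K.ψ elA

/-- The image of the element of order three. -/
def e : G := K.ψ eE

/-- The image of `a t`. -/
def w : G := K.ψ elAT

theorem w_eq : K.w = K.a * K.t := by rw [w, a, t, ← map_mul, elA_mul]

theorem conj_a : IsConj K.t K.a := isConj_iff.2 ⟨K.q, K.q_t⟩

/-- An element that commutes with `t`, `a` and `e`. -/
theorem cent_tae {g : G} (h1 : g * K.t = K.t * g) (h2 : g * K.a = K.a * g) (h3 : g * K.e = K.e * g) :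
    ∃ i < 3, ∃ x < 32, g = K.ψ (eE ^ i * eP x) := by
  obtain ⟨h, rfl⟩ := K.cent g h1
  rw [a, ← map_mul, ← map_mul] at h2
  rw [e, ← map_mul, ← map_mul] at h3
  obtain ⟨i, hi, x, hx', rfl⟩ := cent_A_E (K.inj h2) (K.inj h3)
  exact ⟨i, hi, x, hx', rfl⟩

/-- An element interchanging `t` and `a` and fixing `e`. -/
theorem exists_n : ∃ n : G, n * K.t * n⁻¹ = K.a ∧ n * K.a * n⁻¹ = K.t ∧ n * K.e * n⁻¹ = K.e := by
  classical
  haveI := finite_H0
  haveI : Fact (Nat.Prime 3) := ⟨Nat.prime_three⟩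
  have he_t : eE * hx ^ 2 = hx ^ 2 * eE := Subgroup.mem_center_iff.1 hx_sq_central eE
  have h1 : K.q * K.e * K.q⁻¹ * K.t = K.t * (K.q * K.e * K.q⁻¹) := by
    rw [show K.t = K.q * K.a * K.q⁻¹ from K.q_a.symm, a, e,
      show ∀ u v : G, K.q * u * K.q⁻¹ * (K.q * v * K.q⁻¹) = K.q * (u * v) * K.q⁻¹ from fun u v => by group,
      show ∀ u v : G, K.q * u * K.q⁻¹ * (K.q * v * K.q⁻¹) = K.q * (u * v) * K.q⁻¹ from fun u v => by group,
      ← map_mul, ← map_mul, eE_elA]
  have h2 : K.q * K.e * K.q⁻¹ * K.a = K.a * (K.q * K.e * K.q⁻¹) := by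
    rw [show K.a = K.q * K.t * K.q⁻¹ from K.q_t.symm, t, e,
      show ∀ u v : G, K.q * u * K.q⁻¹ * (K.q * v * K.q⁻¹) = K.q * (u * v) * K.q⁻¹ from fun u v => by group,
      show ∀ u v : G, K.q * u * K.q⁻¹ * (K.q * v * K.q⁻¹) = K.q * (u * v) * K.q⁻¹ from fun u v => by group,
      ← map_mul, ← map_mul, he_t]
  obtain ⟨e', he'⟩ := K.cent _ h1
  have hA' : e' * elA = elA * e' := K.inj (by rw [map_mul, map_mul, he']; exact h2)
  have ho : orderOf e' = 3 := by
    rw [← orderOf_injective K.ψ K.inj, he', show K.q * K.e * K.q⁻¹ = MulAut.conj K.q K.e from rfl,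
      MulEquiv.orderOf_eq, e, orderOf_injective K.ψ K.inj, order_eE]
  let u : CA := ⟨e', Subgroup.mem_centralizer_singleton_iff.2 hA'⟩
  let v : CA := ⟨eE, Subgroup.mem_centralizer_singleton_iff.2 eE_elA⟩
  have hu : Nat.card (Subgroup.zpowers u) = 3 := by rw [Nat.card_zpowers, Subgroup.orderOf_mk, ho]
  have hv : Nat.card (Subgroup.zpowers v) = 3 := by rw [Nat.card_zpowers, Subgroup.orderOf_mk, order_eE]
  have hcard : (Nat.card CA).factorization 3 = 1 := by
    rw [card_CA, show (30720 : ℕ) = 3 * 10240 by norm_num, Nat.factorization_mul (by norm_num) (by norm_num),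
      Finsupp.add_apply, Nat.Prime.factorization_self Nat.prime_three,
      Nat.factorization_eq_zero_of_not_dvd (show ¬3 ∣ 10240 by decide)]
  let P : Sylow 3 CA := Sylow.ofCard (Subgroup.zpowers u) (by rw [hcard, hu, pow_one])
  let Q : Sylow 3 CA := Sylow.ofCard (Subgroup.zpowers v) (by rw [hcard, hv, pow_one])
  obtain ⟨c, hc⟩ := MulAction.exists_smul_eq CA P Q
  have hmem : c * u * c⁻¹ ∈ Subgroup.zpowers v := by
    have h := congrArg (fun R : Sylow 3 CA => (R : Subgroup CA)) hc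
    simp only [P, Q, Sylow.coe_subgroup_smul, Sylow.coe_ofCard] at h
    rw [← h]
    exact ⟨u, Subgroup.mem_zpowers u, rfl⟩
  rw [mem_zpowers_iff_mem_range_orderOf, Subgroup.orderOf_mk, order_eE, Finset.mem_image] at hmem
  obtain ⟨k, hk, ek⟩ := hmem
  rw [Finset.mem_range] at hk
  have ek' : (c : H0) * e' * (c : H0)⁻¹ = eE ^ k := by
    have := congrArg Subtype.val ek
    simpa [u, v] using this.symm
  have hk0 : k ≠ 0 := by
    rintro rfl
    rw [pow_zero, conj_eq_one_iff] at ek'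
    rw [ek', orderOf_one] at ho
    omega
  -- an element of `C(a)` carrying `e'` to `e`
  obtain ⟨d, hdA, hd⟩ : ∃ d : H0, d * elA = elA * d ∧ d * e' * d⁻¹ = eE := by
    obtain ⟨hinv, hlt⟩ := elts_spec.2.2.2.1
    have hsA : eS Dat.invI * elA = elA * eS Dat.invI := by
      have hA : allLo (fun i => commI i iA) 2048 = true := by decide +kernel
      exact (commI_iff hlt special_spec.2.1).1 (allLo_spec hA hlt)
    have hcA := Subgroup.mem_centralizer_singleton_iff.1 c.2
    rcases (show k = 1 ∨ k = 2 by omega) with rfl | rfl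
    · exact ⟨c, hcA, by rw [ek', pow_one]⟩
    · refine ⟨eS Dat.invI * c, (Commute.mul_left hsA hcA).eq, ?_⟩
      have h3 : eE * eE * eE = 1 := elts_spec.1.1
      have e2 : eS Dat.invI * eE * (eS Dat.invI)⁻¹ = eE * eE := by rw [hinv, mul_inv_cancel_right]
      calc eS Dat.invI * c * e' * (eS Dat.invI * c)⁻¹
          = eS Dat.invI * ((c : H0) * e' * (c : H0)⁻¹) * (eS Dat.invI)⁻¹ := by group
        _ = eS Dat.invI * eE * (eS Dat.invI)⁻¹ * (eS Dat.invI * eE * (eS Dat.invI)⁻¹) := by rw [ek', sq]; group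
        _ = eE * eE * eE * eE := by rw [e2]; group
        _ = eE := by rw [h3, one_mul]
  have hdt : d * hx ^ 2 = hx ^ 2 * d := Subgroup.mem_center_iff.1 hx_sq_central d
  refine ⟨K.ψ d * K.q, ?_, ?_, ?_⟩
  · calc K.ψ d * K.q * K.t * (K.ψ d * K.q)⁻¹ = K.ψ d * (K.q * K.t * K.q⁻¹) * (K.ψ d)⁻¹ := by group
      _ = K.a := by rw [show K.q * K.t * K.q⁻¹ = K.ψ elA from K.q_t, ← map_mul, hdA, map_mul, mul_inv_cancel_right]; rfl
  · calc K.ψ d * K.q * K.a * (K.ψ d * K.q)⁻¹ = K.ψ d * (K.q * K.a * K.q⁻¹) * (K.ψ d)⁻¹ := by group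
      _ = K.t := by rw [show K.q * K.a * K.q⁻¹ = K.ψ (hx ^ 2) from K.q_a, ← map_mul, hdt, map_mul, mul_inv_cancel_right]; rfl
  · calc K.ψ d * K.q * K.e * (K.ψ d * K.q)⁻¹ = K.ψ d * (K.q * K.e * K.q⁻¹) * (K.ψ d)⁻¹ := by group
      _ = K.ψ (d * e' * d⁻¹) := by rw [← he', map_mul, map_mul, map_inv]
      _ = K.e := by rw [hd]; rfl

/-- The classes of the two outer involutions. -/
def cls (bC bD : Bool) : Prop :=
  (bC = true ↔ IsConj K.t (K.ψ (eS (Cfsg.Agent.HNRecog.Dat.reps.getD 3 0)))) ∧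
    (bD = true ↔ IsConj K.t (K.ψ (eS (Cfsg.Agent.HNRecog.Dat.reps.getD 4 0))))

theorem isI_spec {x : ℕ} (hx' : x < 32) : isI x = true ↔ eP x * eP x = 1 ∧ x ≠ Dat.onep := by
  obtain ⟨h1, h2⟩ := mulP_spec hx' hx'
  simp only [isI, Bool.and_eq_true, Bool.not_eq_true', Nat.beq_eq]
  rw [h2]
  refine ⟨fun ⟨p, r⟩ => ⟨by rw [p, special_pos.1], fun e => by rw [e] at r; simp at r⟩, fun ⟨p, r⟩ => ⟨?_, ?_⟩⟩
  · exact eP_inj h1 (by decide) (p.trans special_pos.1.symm)
  · rw [← Bool.not_eq_true, Nat.beq_eq]; exact r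

/-- The label of an involution of the table says whether it is conjugate to `t`. -/
theorem lab_spec {bC bD : Bool} (hcl : K.cls bC bD) {x : ℕ} (hx' : x < 32) (hI : isI x = true) :
    lab bC bD x = true ↔ IsConj K.t (K.ψ (eP x)) := by
  obtain ⟨hp, -, -, -, -, hc, -⟩ := pos_spec hx'
  obtain ⟨hsq, hne⟩ := (isI_spec hx').1 hI
  have h0 : pos x ≠ 0 := fun e => hne (eP_inj hx' (by decide) (by rw [special_pos.1, eP, e, eS_zero]))
  have hs : sqI (pos x) = 0 := (sq_one_iff hp).1 hsq
  obtain ⟨hr, -, hh⟩ := wit_spec hp h0 hs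
  have hconj : IsConj (K.ψ (eS (Cfsg.Agent.HNRecog.Dat.reps.getD (clsI (pos x)) 0))) (K.ψ (eP x)) := by
    refine isConj_iff.2 ⟨(K.ψ (el (conjI (pos x))))⁻¹, ?_⟩
    rw [inv_inv, ← map_inv, ← map_mul, ← map_mul, hh, eP]
  have key : IsConj K.t (K.ψ (eP x)) ↔ IsConj K.t (K.ψ (eS (Cfsg.Agent.HNRecog.Dat.reps.getD (clsI (pos x)) 0))) :=
    ⟨fun h => h.trans hconj.symm, fun h => h.trans hconj⟩
  rw [key, lab, ← hc hI]
  obtain ⟨-, -, -, eT, -, -, -, -, -, -, -, e0, e1, e2, -⟩ := special_spec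
  rcases (show clsI (pos x) = 0 ∨ clsI (pos x) = 1 ∨ clsI (pos x) = 2 ∨ clsI (pos x) = 3 ∨ clsI (pos x) = 4 by omega)
    with h | h | h | h | h <;> rw [h]
  · refine iff_of_true rfl ?_
    rw [e0, eT]
    exact IsConj.refl _
  · refine iff_of_true rfl ?_
    rw [e1, ← elA]
    exact K.conj_a
  · refine iff_of_false Bool.false_ne_true ?_
    rw [e2, ← elAT]
    exact K.notAT
  · exact hcl.1
  · exact hcl.2

variable {n : G}

/-- The map induced on the positions. -/
theorem exists_map (ht : n * K.t * n⁻¹ = K.a) (ha : n * K.a * n⁻¹ = K.t) (he : n * K.e * n⁻¹ = K.e) :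
    ∀ x : ℕ, ∃ y < 32, x < 32 → n * K.ψ (eP x) * n⁻¹ = K.ψ (eP y) := by
  intro x
  by_cases hx' : x < 32
  swap
  · exact ⟨0, by norm_num, fun h => absurd h hx'⟩
  have cj : ∀ {u : G}, K.ψ (eP x) * u = u * K.ψ (eP x) →
      n * K.ψ (eP x) * n⁻¹ * (n * u * n⁻¹) = n * u * n⁻¹ * (n * K.ψ (eP x) * n⁻¹) := fun {u} h => by
    calc n * K.ψ (eP x) * n⁻¹ * (n * u * n⁻¹) = n * (K.ψ (eP x) * u) * n⁻¹ := by group
      _ = n * (u * K.ψ (eP x)) * n⁻¹ := by rw [h]
      _ = _ := by group
  have c1 := cj (u := K.a) (by rw [a, ← map_mul, ← map_mul, elA_comm hx'])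
  have c2 := cj (u := K.t) (by rw [t, ← map_mul, ← map_mul, Subgroup.mem_center_iff.1 hx_sq_central])
  have c3 := cj (u := K.e) (by rw [e, ← map_mul, ← map_mul, eE_comm hx'])
  rw [ha] at c1; rw [ht] at c2; rw [he] at c3
  obtain ⟨i, hi, y, hy, hg⟩ := K.cent_tae c1 c2 c3
  refine ⟨y, hy, fun _ => ?_⟩
  have hpow : (eE ^ i * eP y) ^ 2048 = 1 := by
    refine K.inj ?_
    rw [map_pow, ← hg, conj_pow, ← map_pow, eP_pow hx', map_one, mul_one, mul_inv_cancel]
  rw [(Commute.pow_left (eE_comm hy) i).mul_pow, eP_pow hy, mul_one, ← pow_mul,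
    ← orderOf_dvd_iff_pow_eq_one, order_eE] at hpow
  obtain rfl : i = 0 := by omega
  rwa [pow_zero, one_mul] at hg

/-- The induced map is listed. -/
theorem exists_listed {bC bD : Bool} (hcl : K.cls bC bD) {L : List ℕ} (hscan : okScan bC bD L = true) :
    ∃ n : G, n * K.t * n⁻¹ = K.a ∧ n * K.a * n⁻¹ = K.t ∧ n * K.e * n⁻¹ = K.e ∧
      ∃ c ∈ L, ∀ x < 32, n * K.ψ (eP x) * n⁻¹ = K.ψ (eP (fld5 c x)) := by
  obtain ⟨n, hnt, hna, hne⟩ := K.exists_n
  choose f hlt hf using K.exists_map hnt hna hne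
  have hmul : ∀ x < 32, ∀ y < 32, f (mulP x y) = mulP (f x) (f y) := by
    intro x hx' y hy
    obtain ⟨h1, h2⟩ := mulP_spec hx' hy
    obtain ⟨h3, h4⟩ := mulP_spec (hlt x) (hlt y)
    refine eP_inj (hlt _) h3 (K.inj ?_)
    rw [← hf _ h1, ← h2, ← h4, map_mul, map_mul, ← hf x hx', ← hf y hy]
    group
  have hone : f Dat.onep = Dat.onep := by
    refine eP_inj (hlt _) (by decide) (K.inj ?_)
    rw [← hf _ (by decide), special_pos.1, map_one, mul_one, mul_inv_cancel]
  have hker : ∀ x < 32, f x = Dat.onep → x = Dat.onep := by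
    intro x hx' h
    have h' := hf x hx'
    rw [h, special_pos.1, map_one, conj_eq_one_iff] at h'
    exact eP_inj hx' (by decide) (K.inj (by rw [h', special_pos.1, map_one]))
  have hev : ∀ w : List ℕ, (∀ k ∈ w, k < 3) →
      evalW (fun k => f (Dat.gensP.getD k 0)) w = f (evalW (fun k => Dat.gensP.getD k 0) w) := by
    intro w
    induction w using List.reverseRecOn with
    | nil => exact fun _ => hone.symm
    | append_singleton w k ih =>
      intro h
      have hw : ∀ j ∈ w, j < 3 := fun j hj => h j (List.mem_append_left _ hj)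
      have hk := h k (List.mem_append_right _ (List.mem_singleton_self k))
      simp only [evalW, List.foldl_append, List.foldl_cons, List.foldl_nil]
      have := ih hw
      simp only [evalW] at this
      rw [this, hmul _ (by
        have := (eP_evalW (fun k => Dat.gensP.getD k 0) w fun j hj => gens_lt32 (hw j hj)).1
        exact this) _ (gens_lt32 hk)]
  set v0 := f (Dat.gensP.getD 0 0) with hv0
  set v1 := f (Dat.gensP.getD 1 0) with hv1
  set v2 := f (Dat.gensP.getD 2 0) with hv2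
  have hget : ∀ k < 3, ([v0, v1, v2] : List ℕ).getD k 0 = f (Dat.gensP.getD k 0) := by
    intro k hk
    interval_cases k <;> rfl
  have hphi : ∀ x < 32, phiOf v0 v1 v2 x = f x := by
    intro x hx'
    obtain ⟨-, -, -, he', hk, -⟩ := pos_spec hx'
    conv_rhs => rw [← he', ← hev _ hk]
    unfold phiOf evalW
    refine List.foldl_ext _ _ _ fun acc k hk' => ?_
    exact congrArg (mulP acc) (hget k (hk k hk'))
  have hIf : ∀ x < 32, isI x = true → isI (f x) = true := by
    intro x hx' hI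
    obtain ⟨h1, h2⟩ := (isI_spec hx').1 hI
    refine (isI_spec (hlt x)).2 ⟨K.inj ?_, fun e => h2 (hker x hx' e)⟩
    rw [map_mul, ← hf x hx', show ∀ u : G, n * u * n⁻¹ * (n * u * n⁻¹) = n * (u * u) * n⁻¹ from fun u => by group,
      ← map_mul, h1, map_one, mul_one, mul_inv_cancel]
  have hlab : ∀ x < 32, isI x = true → lab bC bD (f x) = lab bC bD x := by
    intro x hx' hI
    rw [Bool.eq_iff_iff, K.lab_spec hcl (hlt x) (hIf x hx' hI), K.lab_spec hcl hx' hI, ← hf x hx']
    have hc : IsConj (K.ψ (eP x)) (n * K.ψ (eP x) * n⁻¹) := isConj_iff.2 ⟨n, rfl⟩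
    exact ⟨fun h => h.trans hc.symm, fun h => h.trans hc⟩
  have himg : ∀ k < 3, okImg bC bD k (f (Dat.gensP.getD k 0)) = true := by
    intro k hk
    have hg := gens_lt32 hk
    simp only [okImg]
    by_cases hI : isI (Dat.gensP.getD k 0) = true
    · rw [hI, hIf _ hg hI, hlab _ hg hI]
      cases lab bC bD (Dat.gensP.getD k 0) <;> rfl
    · rw [Bool.not_eq_true] at hI
      have hIf' : isI (f (Dat.gensP.getD k 0)) = false := by
        rw [← Bool.not_eq_true]
        intro hc
        obtain ⟨h1, h2⟩ := (isI_spec (hlt _)).1 hc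
        have e : isI (Dat.gensP.getD k 0) = true := by
          refine (isI_spec hg).2 ⟨K.inj ?_, fun e => h2 (by rw [e, hone])⟩
          have := congrArg K.ψ h1
          rw [map_mul, ← hf _ hg, map_one, show ∀ u : G, n * u * n⁻¹ * (n * u * n⁻¹) = n * (u * u) * n⁻¹ from
            fun u => by group, conj_eq_one_iff] at this
          rw [map_mul, this, map_one]
        rw [hI] at e
        exact Bool.noConfusion e
      rw [hI, hIf']
      rfl
  have hvalid : validPhi bC bD v0 v1 v2 = true := by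
    have allLo_of : ∀ {g : ℕ → Bool} {m : ℕ}, (∀ i < m, g i = true) → allLo g m = true := by
      intro g m
      induction m with
      | zero => exact fun _ => rfl
      | succ m ih =>
        intro h
        show Bool.rec false _ (g m) = true
        rw [h m m.lt_succ_self]
        exact ih fun i hi => h i (Nat.lt_succ_of_lt hi)
    simp only [validPhi, Bool.and_eq_true, Nat.beq_eq]
    refine ⟨⟨⟨⟨?_, ?_⟩, allLo_of fun x hx' => allLo_of fun k hk => ?_⟩, allLo_of fun x hx' => ?_⟩,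
      allLo_of fun x hx' => ?_⟩
    · rw [hphi _ (by decide)]
      refine eP_inj (hlt _) (by decide) (K.inj ?_)
      rw [← hf _ (by decide), special_pos.2.1, special_pos.2.2.1]
      exact hnt
    · rw [hphi _ (by decide)]
      refine eP_inj (hlt _) (by decide) (K.inj ?_)
      rw [← hf _ (by decide), special_pos.2.1, special_pos.2.2.1]
      exact hna
    · rw [Nat.beq_eq, hphi _ (mulP_spec hx' (gens_lt32 hk)).1, hphi x hx', hget k hk, hmul x hx' _ (gens_lt32 hk)]
    · rw [Bool.or_eq_true, Nat.beq_eq, Bool.not_eq_true', hphi x hx']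
      by_cases e : x = Dat.onep
      · exact Or.inl e
      · exact Or.inr (by rw [← Bool.not_eq_true, Nat.beq_eq]; exact fun h => e (hker x hx' h))
    · rw [Bool.or_eq_true, Bool.not_eq_true', hphi x hx']
      by_cases hI : isI x = true
      · right
        rw [hlab x hx' hI]
        cases lab bC bD x <;> rfl
      · exact Or.inl (by simpa using hI)
  have h := allLo_spec hscan (hlt (Dat.gensP.getD 0 0))
  rw [Bool.or_eq_true, himg 0 (by norm_num)] at h
  have h := allLo_spec (h.resolve_left (by decide)) (hlt (Dat.gensP.getD 1 0))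
  rw [Bool.or_eq_true, himg 1 (by norm_num)] at h
  have h := allLo_spec (h.resolve_left (by decide)) (hlt (Dat.gensP.getD 2 0))
  rw [Bool.or_eq_true, Bool.or_eq_true, himg 2 (by norm_num), ← hv0, ← hv1, ← hv2, hvalid] at h
  obtain ⟨c, hc, hall⟩ := List.any_eq_true.1 (h.resolve_left (by decide))
  refine ⟨n, hnt, hna, hne, c, hc, fun x hx' => ?_⟩
  rw [hf x hx', Nat.eq_of_beq_eq_true (allLo_spec hall hx'), hphi x hx']

end Ctx

end

end Cfsg.Agent.HNRecog.Assign
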